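import Cfsg.Agent.Lib.ReeOrder.Block.Coeff
import Cfsg.Agent.Lib.InvChar.KleinCentralizer

/-!
The pairs of involutions with product in the section of `t`: the sums `∑ c(χ) χ(t)² / χ(1)` for the
three functions on the section.
-/

set_option autoImplicit false
set_option linter.unusedSectionVars false
set_option linter.style.haveILetI false

namespace CfsgLib.ReeOrder.Block

open Cfsg CfsgLib.ReeType CfsgLib.Characters CfsgLib.JankoThompson
open scoped ComplexConjugate Classical

universe u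

variable {G : Type u} [Group G] [Fintype G]
variable {F : Type} [Field F] [Fintype F] [DecidableEq F]
variable {t : G}

local notation "PSL2" => Matrix.ProjectiveSpecialLinearGroup (Fin 2) F
local notation "InvL" =>
  (Finset.univ.filter fun k : Matrix.ProjectiveSpecialLinearGroup (Fin 2) F => orderOf k = 2)

variable (K : Conf t F)

include K

theorem exists_involution_L : ∃ w : PSL2, orderOf w = 2 := by
  haveI := Fact.mk Nat.prime_two
  exact exists_prime_orderOf_dvd_card' 2 (by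
    rw [card_L K, mul_assoc, mul_assoc]
    exact dvd_mul_of_dvd_left (by norm_num) _)

/-- The index of the centralizer of an involution of the complement. -/
theorem index_inv {w : PSL2} (hw : orderOf w = 2) :
    (Subgroup.centralizer ({w} : Set PSL2)).index =
      Fintype.card F * oddTorus (Fintype.card F) := by
  have hc := CfsgLib.PSL2.card_centralizer_involution (Psl.q_odd K.q_mod K.q_ge) hw
  have h4 : Nat.card (Subgroup.centralizer ({w} : Set PSL2)) = 4 * coTorus (Fintype.card F) := by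
    rcases sq_cases (q_mod' K) with ⟨e, -, -, e2⟩ | ⟨e, -, -, e2⟩ <;> rw [hc] <;> split_ifs <;> omega
  have hmul := (Subgroup.centralizer ({w} : Set PSL2)).card_mul_index
  rw [h4, card_L K, show 4 * Fintype.card F * coTorus (Fintype.card F) * oddTorus (Fintype.card F) =
    4 * coTorus (Fintype.card F) * (Fintype.card F * oddTorus (Fintype.card F)) by ring] at hmul
  exact Nat.eq_of_mul_eq_mul_left
    (by have := three_le_coTorus (q_mod' K) K.q_ge; omega) hmul

/-- The sum of an irreducible character over the products of two involutions of the complement. -/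
theorem inv_sum_L (ψ : IrrCharacter PSL2) {w : PSL2} (hw : orderOf w = 2) :
    ∑ a ∈ InvL, ∑ b ∈ InvL, (ψ : PSL2 → ℂ) (a * b) =
      ((Fintype.card F * oddTorus (Fintype.card F) : ℕ) : ℂ) ^ 2 *
        ((ψ : PSL2 → ℂ) w ^ 2 / (ψ : PSL2 → ℂ) 1) := by
  have heq : InvL = Finset.univ.filter (IsConj w) := by
    ext k
    simp only [Finset.mem_filter, Finset.mem_univ, true_and]
    refine ⟨fun h => CfsgLib.PSL2.isConj_of_orderOf_two K.two_ne hw h, fun h => ?_⟩
    obtain ⟨c, rfl⟩ := isConj_iff.1 h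
    exact (orderOf_injective (MulAut.conj c).toMonoidHom (MulEquiv.injective _) w).trans hw
  have hcard : (Finset.univ.filter (IsConj w)).card =
      Fintype.card F * oddTorus (Fintype.card F) := by
    rw [← index_inv K hw, ← card_isConj_eq_index, Nat.card_eq_fintype_card, Fintype.card_subtype]
  rw [heq, ← hcard, ← mul_div_assoc]
  convert CfsgLib.InvChar.KleinCentralizer.sum_char_class_products ψ w

/-- The pairs of involutions of the centralizer, by the pairs in the complement. -/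
theorem sum_invs {f : PSL2 → ℂ} (hs : OddSupport f) :
    ∑ a ∈ (toProj K).invs, ∑ b ∈ (toProj K).invs, (toProj K).phi f (a * b) =
      4 * ∑ k ∈ InvL, ∑ l ∈ InvL, f (k * l) := by
  set g : Multiplicative (ZMod 2) := Multiplicative.ofAdd 1 with hg
  let H : Multiplicative (ZMod 2) × PSL2 → ℂ := fun y => (1 - signZTwo y.1) * f y.2
  set I2 := Finset.univ.filter
    (fun y : Multiplicative (ZMod 2) × PSL2 => orderOf y = 2) with hI2
  have htr : ∀ Φ : Multiplicative (ZMod 2) × PSL2 → ℂ,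
      ∑ a ∈ (toProj K).invs, Φ (K.cent.e a) = ∑ y ∈ I2, Φ y := fun Φ =>
    Finset.sum_equiv K.cent.e.toEquiv (fun a => by
      simp [Proj.invs, hI2, MulEquiv.orderOf_eq]) fun a _ => rfl
  have hphi : ∀ a b : Subgroup.centralizer ({t} : Set G),
      (toProj K).phi f (a * b) = H (K.cent.e a * K.cent.e b) := fun a b => by
    rw [← map_mul]; rfl
  simp only [hphi]
  rw [htr (fun y => ∑ b ∈ (toProj K).invs, H (y * K.cent.e b))]
  rw [Finset.sum_congr rfl fun y _ => htr (fun z => H (y * z))]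
  have hz : ∀ z : Multiplicative (ZMod 2), z = 1 ∨ z = g := by decide
  have hg1 : g ≠ 1 := by decide
  have hgg : g * g = 1 := by decide
  have hset : I2 = insert (g, (1 : PSL2)) (({1, g} : Finset (Multiplicative (ZMod 2))) ×ˢ InvL) := by
    ext ⟨z, k⟩
    simp only [hI2, Finset.mem_filter, Finset.mem_univ, true_and, Finset.mem_insert,
      Finset.mem_product, Finset.mem_singleton, Prod.mk.injEq, hz z]
    rw [orderOf_eq_prime_iff, orderOf_eq_prime_iff, pow_two, pow_two, Prod.mk_mul_mk,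
      Prod.mk_eq_one, ne_eq, Prod.mk_eq_one]
    rcases hz z with rfl | rfl
    · simp [hg1.symm]
    · by_cases hk : k = 1 <;> simp [hk, hgg, hg1]
  have hnot : (g, (1 : PSL2)) ∉ ({1, g} : Finset (Multiplicative (ZMod 2))) ×ˢ InvL := by
    simp [Finset.mem_product]
  have hsum : ∀ Φ : Multiplicative (ZMod 2) × PSL2 → ℂ, ∑ y ∈ I2, Φ y =
      Φ (g, 1) + ((∑ k ∈ InvL, Φ (1, k)) + ∑ k ∈ InvL, Φ (g, k)) := fun Φ => by
    rw [hset, Finset.sum_insert hnot, Finset.sum_product, Finset.sum_pair hg1.symm]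
  have hf : ∀ k ∈ InvL, f k = 0 := fun k hk =>
    hs k (by rw [(Finset.mem_filter.1 hk).2]; exact even_two)
  have hH1 : ∀ k, H (1, k) = 0 := fun k => by simp [H, signZTwo]
  have hHg : ∀ k, H (g, k) = 2 * f k := fun k => by
    simp [H, signZTwo, hg1]; norm_num
  simp only [hsum, Prod.mk_mul_mk, one_mul, mul_one, hgg, hH1, hHg]
  simp only [Finset.sum_const_zero, zero_add, add_zero, Finset.mul_sum]
  rw [Finset.sum_congr rfl fun k hk => show 2 * f k = 0 by rw [hf k hk, mul_zero],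
    Finset.sum_const_zero, zero_add, Finset.sum_congr rfl fun k hk =>
      show 2 * f k + ∑ l ∈ InvL, 2 * f (k * l) = ∑ l ∈ InvL, 2 * f (k * l) by
        rw [hf k hk, mul_zero, zero_add],
    ← Finset.sum_add_distrib]
  refine Finset.sum_congr rfl fun k _ => ?_
  rw [← Finset.sum_add_distrib]
  exact Finset.sum_congr rfl fun l _ => by ring

/-- The equation of the class multiplication on the section. -/
theorem pair_sum {f : PSL2 → ℂ} (hs : OddSupport f) {r : ℂ}
    (hL : ∑ k ∈ InvL, ∑ l ∈ InvL, f (k * l) =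
      ((Fintype.card F * oddTorus (Fintype.card F) : ℕ) : ℂ) ^ 2 * r) :
    ∑ χ : IrrCharacter G,
        classInner ((toProj K).sec f) (χ : G → ℂ) * (χ : G → ℂ) t ^ 2 / (χ : G → ℂ) 1 =
      4 * ((Fintype.card F * oddTorus (Fintype.card F) : ℕ) : ℂ) ^ 2 * r / (K.I : ℂ) := by
  set S := ∑ χ : IrrCharacter G,
    classInner ((toProj K).sec f) (χ : G → ℂ) * (χ : G → ℂ) t ^ 2 / (χ : G → ℂ) 1 with hS
  set IG := Finset.univ.filter (fun g : G => orderOf g = 2) with hIG
  have heq : IG = Finset.univ.filter (IsConj t) := by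
    ext g
    simp only [hIG, Finset.mem_filter, Finset.mem_univ, true_and]
    refine ⟨fun h => K.isConj_involution h, fun h => ?_⟩
    obtain ⟨c, rfl⟩ := isConj_iff.1 h
    exact (orderOf_injective (MulAut.conj c).toMonoidHom (MulEquiv.injective _) t).trans K.orderOf_t
  have hcard : (Finset.univ.filter (IsConj t)).card = K.I := by
    rw [show K.I = (Subgroup.centralizer ({t} : Set G)).index from rfl, ← card_isConj_eq_index,
      Nat.card_eq_fintype_card, Fintype.card_subtype]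
  have hA : ∑ a ∈ IG, ∑ b ∈ IG, (toProj K).sec f (a * b) = (K.I : ℂ) ^ 2 * S := by
    conv_lhs => rw [classFunction_eq_sum ((toProj K).sec_class f)]
    simp only [Finset.sum_apply, Pi.smul_apply, smul_eq_mul]
    rw [hS, Finset.mul_sum, Finset.sum_congr rfl fun a _ => Finset.sum_comm, Finset.sum_comm]
    refine Finset.sum_congr rfl fun χ _ => ?_
    simp only [← Finset.mul_sum]
    rw [heq, CfsgLib.InvChar.KleinCentralizer.sum_char_class_products, hcard]
    ring
  have hB := (toProj K).class_product_sum hs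
  rw [hA, sum_invs K hs, hL, ← (Subgroup.centralizer ({t} : Set G)).card_mul_index, Nat.cast_mul,
    show ((Subgroup.centralizer ({t} : Set G)).index : ℂ) = (K.I : ℂ) from rfl] at hB
  have hI : (K.I : ℂ) ≠ 0 := Nat.cast_ne_zero.2 Subgroup.index_ne_zero_of_finite
  have hC : (Nat.card (Subgroup.centralizer ({t} : Set G)) : ℂ) ≠ 0 :=
    Nat.cast_ne_zero.2 Nat.card_pos.ne'
  rw [eq_div_iff hI]
  refine mul_left_cancel₀ hI (mul_left_cancel₀ hC ?_)
  linear_combination hB

/-- The three sums. -/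
theorem pair_sums (D : HalfData F) :
    (∑ χ : IrrCharacter G, classInner ((toProj K).sec D.f0) (χ : G → ℂ) * (χ : G → ℂ) t ^ 2 /
        (χ : G → ℂ) 1) = ((ratio K.q K.I : ℚ) : ℂ) ∧
    (∑ χ : IrrCharacter G, classInner ((toProj K).sec D.g1) (χ : G → ℂ) * (χ : G → ℂ) t ^ 2 /
        (χ : G → ℂ) 1) = ((ratio₂ K.q * ratio K.q K.I : ℚ) : ℂ) ∧
    (∑ χ : IrrCharacter G, classInner ((toProj K).sec D.g2) (χ : G → ℂ) * (χ : G → ℂ) t ^ 2 /
        (χ : G → ℂ) 1) = ((ratio₂ K.q * ratio K.q K.I : ℚ) : ℂ) := by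
  obtain ⟨w, hw⟩ := exists_involution_L K
  have he2 := D.e_mul
  set q := Fintype.card F with hq
  obtain ⟨hst, heta, heta'⟩ := D.even w (by rw [hw]; exact even_two)
  have hST : ∑ a ∈ InvL, ∑ b ∈ InvL, (D.St : PSL2 → ℂ) (a * b) =
      ((q * oddTorus q : ℕ) : ℂ) ^ 2 * (1 / (q : ℂ)) := by
    rw [inv_sum_L K D.St hw, hst, D.St_one, neg_sq, pow_two (D.e : ℂ), he2]
  have half : ∀ η : IrrCharacter PSL2, (η : PSL2 → ℂ) w = (D.e : ℂ) →
      2 * (η : PSL2 → ℂ) 1 = (q : ℂ) - (D.e : ℂ) →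
      ∑ a ∈ InvL, ∑ b ∈ InvL, ((D.e : ℂ) • ((η : PSL2 → ℂ) + D.St)) (a * b) =
        ((q * oddTorus q : ℕ) : ℂ) ^ 2 *
          ((D.e : ℂ) * (2 / ((q : ℂ) - (D.e : ℂ)) + 1 / (q : ℂ))) := by
    intro η hη hη1
    have h1 : (η : PSL2 → ℂ) 1 = ((q : ℂ) - (D.e : ℂ)) / 2 := by rw [← hη1]; ring
    simp only [Pi.smul_apply, Pi.add_apply, smul_eq_mul, ← Finset.mul_sum, Finset.sum_add_distrib,
      hST, inv_sum_L K η hw, hη, h1, pow_two (D.e : ℂ), he2, one_div_div]
    ring
  have h0 : ∑ a ∈ InvL, ∑ b ∈ InvL, D.f0 (a * b) =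
      ((q * oddTorus q : ℕ) : ℂ) ^ 2 * (1 + (D.e : ℂ) / (q : ℂ)) := by
    have hcard : (InvL).card = q * oddTorus q := by
      have h := inv_sum_L K ⟨_, isIrrCharacter_one⟩ hw
      simp only [Finset.sum_const, nsmul_eq_mul, mul_one, one_pow, div_one] at h
      have h' : ((InvL).card * (InvL).card : ℕ) = (q * oddTorus q) ^ 2 := by exact_mod_cast h
      rw [← pow_two] at h'
      exact Nat.pow_left_injective two_ne_zero h'
    simp only [HalfData.f0, Pi.add_apply, Pi.smul_apply, smul_eq_mul, Finset.sum_add_distrib,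
      ← Finset.mul_sum, hST, Finset.sum_const, nsmul_eq_mul, mul_one, hcard]
    ring
  rw [pair_sum K D.f0_odd h0, pair_sum K D.g1_odd (half D.eta heta D.eta_one),
    pair_sum K D.g2_odd (half D.eta' heta' D.eta'_one)]
  have hI : (K.I : ℂ) ≠ 0 := Nat.cast_ne_zero.2 Subgroup.index_ne_zero_of_finite
  have hge : 11 ≤ q := K.q_ge
  have hq0 : (q : ℂ) ≠ 0 := Nat.cast_ne_zero.2 (by omega)
  have hqm : (q : ℂ) - 1 ≠ 0 := sub_ne_zero.2 (by exact_mod_cast (by omega : q ≠ 1))
  have hqp : (q : ℂ) + 1 ≠ 0 := by exact_mod_cast Nat.succ_ne_zero q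
  have hsq2 : (q : ℂ) ^ 2 - 1 ≠ 0 := by
    rw [show (q : ℂ) ^ 2 - 1 = ((q : ℂ) - 1) * ((q : ℂ) + 1) by ring]
    exact mul_ne_zero hqm hqp
  suffices H : 4 * ((q * oddTorus q : ℕ) : ℂ) ^ 2 * (1 + (D.e : ℂ) / (q : ℂ)) / (K.I : ℂ) =
        ((ratio q K.I : ℚ) : ℂ) ∧
      4 * ((q * oddTorus q : ℕ) : ℂ) ^ 2 *
          ((D.e : ℂ) * (2 / ((q : ℂ) - (D.e : ℂ)) + 1 / (q : ℂ))) / (K.I : ℂ) =
        ((ratio₂ q * ratio q K.I : ℚ) : ℂ) from ⟨H.1, H.2, H.2⟩
  rcases D.q_mod with ⟨e1, h8⟩ | ⟨e1, h8⟩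
  · rcases sq_cases (q := q) (q_mod' K) with ⟨-, hs, hb, -⟩ | ⟨h5, -, -, -⟩
    · have hb' : 2 * (oddTorus q : ℂ) = (q : ℂ) - 1 := by
        rw [eq_sub_iff_add_eq]; exact_mod_cast hb
      have habs : ((((q : ℕ) : ℤ) - 1).natAbs : ℚ) = (q : ℚ) - 1 := by
        rw [show (((q : ℕ) : ℤ) - 1).natAbs = q - 1 by omega, Nat.cast_sub (by omega), Nat.cast_one]
      simp only [ratio, ratio₂, hs, e1, habs]
      push_cast
      rw [show (oddTorus q : ℂ) = ((q : ℂ) - 1) / 2 by linear_combination hb' / 2]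
      constructor <;> field_simp <;> ring
    · omega
  · rcases sq_cases (q := q) (q_mod' K) with ⟨h3, -, -, -⟩ | ⟨-, hs, hb, -⟩
    · omega
    · have hb' : 2 * (oddTorus q : ℂ) = (q : ℂ) + 1 := by exact_mod_cast hb
      have habs : ((-((q : ℕ) : ℤ) - 1).natAbs : ℚ) = (q : ℚ) + 1 := by
        rw [show (-((q : ℕ) : ℤ) - 1).natAbs = q + 1 by omega, Nat.cast_add, Nat.cast_one]
      simp only [ratio, ratio₂, hs, e1, habs]
      push_cast
      rw [show (oddTorus q : ℂ) = ((q : ℂ) + 1) / 2 by linear_combination hb' / 2]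
      constructor <;> field_simp <;> ring

end CfsgLib.ReeOrder.Block
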