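import Cfsg.Agent.Lib.ReeOrder.Block.Coeff
import Cfsg.Agent.Lib.Characters.FrobSchur

/-!
Automorphisms of `ℂ` and Frobenius–Schur indicators on the first column.
-/

set_option autoImplicit false
set_option linter.unusedSectionVars false
set_option linter.style.haveILetI false

namespace CfsgLib.ReeOrder.Block

open Cfsg CfsgLib.ReeType CfsgLib.Characters CfsgLib.JankoThompson CfsgLib.FrobSchur
open scoped ComplexConjugate Classical

universe u

variable {G : Type u} [Group G] [Fintype G]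
variable {F : Type} [Field F] [Fintype F] [DecidableEq F]
variable {t : G} (K : Conf t F)

local notation "PSL2" => Matrix.ProjectiveSpecialLinearGroup (Fin 2) F

/-- The image of a character under an automorphism of `ℂ`. -/
noncomputable def galChar (σ : ℂ ≃+* ℂ) (χ : IrrCharacter G) : IrrCharacter G :=
  ⟨fun g => σ ((χ : G → ℂ) g), CfsgLib.CharGalois.isIrrCharacter_map σ χ.2⟩

theorem galChar_injective (σ : ℂ ≃+* ℂ) : Function.Injective (galChar (G := G) σ) := fun a b h =>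
  Subtype.ext (funext fun g => σ.injective (congrFun (congrArg Subtype.val h) g))

include K

theorem sec_map (σ : ℂ ≃+* ℂ) (f : PSL2 → ℂ) (g : G) :
    σ ((toProj K).sec f g) = (toProj K).sec (fun k => σ (f k)) g := by
  rw [Proj.sec, Proj.sec, CfsgLib.Induction.indFun_apply, CfsgLib.Induction.indFun_apply, map_mul,
    map_inv₀, map_natCast, map_sum]
  congr 1
  refine Finset.sum_congr rfl fun x _ => ?_
  by_cases hm : x⁻¹ * g * x ∈ Subgroup.centralizer ({t} : Set G)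
  · rw [CfsgLib.Induction.extendByZero_mem _ _ hm, CfsgLib.Induction.extendByZero_mem _ _ hm]
    simp only [Proj.phi]
    rcases (toProj K).sg_cases ⟨x⁻¹ * g * x, hm⟩ with ⟨-, e⟩ | ⟨-, e⟩ <;> simp [e]
  · rw [CfsgLib.Induction.extendByZero_notMem _ _ hm, CfsgLib.Induction.extendByZero_notMem _ _ hm,
      map_zero]

/-- Automorphisms act on the coefficients through the functions on the section. -/
theorem inner_map (σ : ℂ ≃+* ℂ) {f f' : PSL2 → ℂ} (hf : ∀ k, σ (f k) = f' k) (χ : IrrCharacter G) :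
    classInner ((toProj K).sec f') (galChar σ χ : G → ℂ) =
      σ (classInner ((toProj K).sec f) (χ : G → ℂ)) := by
  have e : f' = fun k => σ (f k) := funext fun k => (hf k).symm
  rw [classInner, classInner, map_mul, map_inv₀, map_natCast, map_sum]
  congr 1
  refine Finset.sum_congr rfl fun g _ => ?_
  rw [map_mul, sec_map K σ f g, ← e, ← irr_apply_inv, ← irr_apply_inv]
  rfl

variable (D : HalfData F)

theorem map_funs {σ : ℂ ≃+* ℂ}
    (h : ∀ k, σ ((D.eta : PSL2 → ℂ) k) = (D.eta' : PSL2 → ℂ) k ∧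
      σ ((D.eta' : PSL2 → ℂ) k) = (D.eta : PSL2 → ℂ) k ∧
      σ ((D.St : PSL2 → ℂ) k) = (D.St : PSL2 → ℂ) k) :
    (∀ k, σ (D.f0 k) = D.f0 k) ∧ (∀ k, σ (D.g1 k) = D.g2 k) ∧ ∀ k, σ (D.g2 k) = D.g1 k := by
  refine ⟨fun k => ?_, fun k => ?_, fun k => ?_⟩ <;>
    simp [HalfData.f0, HalfData.g1, HalfData.g2, map_add, map_mul, (h k).1, (h k).2.1, (h k).2.2]

theorem map_funs_fix {σ : ℂ ≃+* ℂ}
    (h : ∀ k, σ ((D.eta : PSL2 → ℂ) k) = (D.eta : PSL2 → ℂ) k ∧
      σ ((D.eta' : PSL2 → ℂ) k) = (D.eta' : PSL2 → ℂ) k ∧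
      σ ((D.St : PSL2 → ℂ) k) = (D.St : PSL2 → ℂ) k) :
    (∀ k, σ (D.f0 k) = D.f0 k) ∧ (∀ k, σ (D.g1 k) = D.g1 k) ∧ ∀ k, σ (D.g2 k) = D.g2 k := by
  refine ⟨fun k => ?_, fun k => ?_, fun k => ?_⟩ <;>
    simp [HalfData.f0, HalfData.g1, HalfData.g2, map_add, map_mul, (h k).1, (h k).2.1, (h k).2.2]

/-- An automorphism exchanging the halves exchanges the last two columns. -/
theorem coeff_swap {x : IrrCharacter G → Fin 3 → ℤ}
    (hx : ∀ χ : IrrCharacter G, classInner ((toProj K).sec D.f0) (χ : G → ℂ) = (x χ 0 : ℂ) ∧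
      classInner ((toProj K).sec D.g1) (χ : G → ℂ) = (x χ 1 : ℂ) ∧
      classInner ((toProj K).sec D.g2) (χ : G → ℂ) = (x χ 2 : ℂ))
    {σ : ℂ ≃+* ℂ}
    (h : ∀ k, σ ((D.eta : PSL2 → ℂ) k) = (D.eta' : PSL2 → ℂ) k ∧
      σ ((D.eta' : PSL2 → ℂ) k) = (D.eta : PSL2 → ℂ) k ∧
      σ ((D.St : PSL2 → ℂ) k) = (D.St : PSL2 → ℂ) k) (χ : IrrCharacter G) :
    x (galChar σ χ) 0 = x χ 0 ∧ x (galChar σ χ) 1 = x χ 2 ∧ x (galChar σ χ) 2 = x χ 1 := by
  obtain ⟨a, b, c⟩ := map_funs K D h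
  have e0 := inner_map K σ a χ
  have e1 := inner_map K σ c χ
  have e2 := inner_map K σ b χ
  simp only [(hx _).1, (hx _).2.1, (hx _).2.2, map_intCast, Int.cast_inj] at e0 e1 e2
  exact ⟨e0, e1, e2⟩

/-- An automorphism fixing the halves fixes the columns. -/
theorem coeff_fix {x : IrrCharacter G → Fin 3 → ℤ}
    (hx : ∀ χ : IrrCharacter G, classInner ((toProj K).sec D.f0) (χ : G → ℂ) = (x χ 0 : ℂ) ∧
      classInner ((toProj K).sec D.g1) (χ : G → ℂ) = (x χ 1 : ℂ) ∧
      classInner ((toProj K).sec D.g2) (χ : G → ℂ) = (x χ 2 : ℂ))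
    {σ : ℂ ≃+* ℂ}
    (h : ∀ k, σ ((D.eta : PSL2 → ℂ) k) = (D.eta : PSL2 → ℂ) k ∧
      σ ((D.eta' : PSL2 → ℂ) k) = (D.eta' : PSL2 → ℂ) k ∧
      σ ((D.St : PSL2 → ℂ) k) = (D.St : PSL2 → ℂ) k) (χ : IrrCharacter G) :
    x (galChar σ χ) 0 = x χ 0 ∧ x (galChar σ χ) 1 = x χ 1 ∧ x (galChar σ χ) 2 = x χ 2 := by
  obtain ⟨a, b, c⟩ := map_funs_fix K D h
  have e0 := inner_map K σ a χ
  have e1 := inner_map K σ b χ
  have e2 := inner_map K σ c χ
  simp only [(hx _).1, (hx _).2.1, (hx _).2.2, map_intCast, Int.cast_inj] at e0 e1 e2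
  exact ⟨e0, e1, e2⟩

/-- No square lies in the section of `t`. -/
theorem sec_square {f : PSL2 → ℂ} (hs : OddSupport f) (s : G) : (toProj K).sec f (s * s) = 0 := by
  rw [Proj.sec, CfsgLib.Induction.indFun_apply, Finset.sum_eq_zero, mul_zero]
  intro x _
  by_cases hm : x⁻¹ * (s * s) * x ∈ Subgroup.centralizer ({t} : Set G)
  swap
  · exact CfsgLib.Induction.extendByZero_notMem _ _ hm
  rw [CfsgLib.Induction.extendByZero_mem _ _ hm]
  by_contra hne
  obtain ⟨-, ho, -⟩ := (toProj K).phi_ne hs hne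
  have h1 := on_support K hs hne
  set k := (toProj K).proj ⟨x⁻¹ * (s * s) * x, hm⟩
  set y := x⁻¹ * s * x
  have hy : y * y = t * K.cent.up k := by
    rw [← h1]; simp only [y]; group
  set z := y ^ orderOf k
  have hz : z * z = t := by
    have h2 : z * z = (y * y) ^ orderOf k := ((Commute.refl y).mul_pow _).symm
    rw [h2, hy, (K.mul_t_comm k).symm.mul_pow, ← map_pow, pow_orderOf_eq_one, map_one, mul_one]
    obtain ⟨j, hj⟩ := ho
    rw [hj, pow_succ, pow_mul, pow_two, K.t_mul_self, one_pow, one_mul]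
  have hzc : z ∈ Subgroup.centralizer ({t} : Set G) :=
    Subgroup.mem_centralizer_singleton_iff.2 (by rw [← hz, mul_assoc])
  have h3 : (⟨z, hzc⟩ : Subgroup.centralizer ({t} : Set G)) * ⟨z, hzc⟩ = tC K := Subtype.ext hz
  have h4 := congrArg (fun w => (K.cent.e w).1) h3
  simp only [map_mul, Prod.fst_mul, show (K.cent.e (tC K)).1 = Multiplicative.ofAdd (1 : ZMod 2) from
    congrArg Prod.fst K.cent.he] at h4
  have key : ∀ w : Multiplicative (ZMod 2), w * w ≠ Multiplicative.ofAdd 1 := by decide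
  exact key _ h4

/-- The indicators are orthogonal to the columns. -/
theorem sum_indicator {f : PSL2 → ℂ} (hs : OddSupport f) :
    ∑ χ : IrrCharacter G, classInner ((toProj K).sec f) (χ : G → ℂ) * fsInd (χ : G → ℂ) = 0 := by
  have h1 : ∑ s : G, (toProj K).sec f (s * s) = 0 := Finset.sum_eq_zero fun s _ => sec_square K hs s
  rw [classFunction_eq_sum ((toProj K).sec_class f)] at h1
  simp only [Finset.sum_apply, Pi.smul_apply, smul_eq_mul] at h1
  rw [Finset.sum_comm] at h1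
  simp only [← Finset.mul_sum] at h1
  simp only [fsInd_eq_sum, ← mul_assoc, mul_comm _ ((Nat.card G : ℂ)⁻¹)]
  simp only [mul_assoc, ← Finset.mul_sum]
  rw [h1, mul_zero]

/-- A real character of odd degree has indicator one. -/
theorem fsInd_one {χ : IrrCharacter G} (hreal : ∀ g, ((χ : G → ℂ) g).im = 0)
    (hodd : Odd (charDegree (χ : G → ℂ))) : fsInd (χ : G → ℂ) = 1 := by
  rcases fsInd_cases χ.2 with ⟨-, h | h⟩ | ⟨hnr, -⟩
  · exact h
  · exfalso
    obtain ⟨n, ρ, hρ, he⟩ := χ.2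
    haveI := hρ
    rw [← he] at h hreal
    obtain ⟨B, hB0, hB⟩ := (exists_invForm_iff_real ρ hρ).2 hreal
    have hT := transpose_eq_fsInd_smul ρ hρ hB
    rw [h, neg_one_smul] at hT
    have heven := even_card_of_skew hT (isUnit_det_of_invForm ρ hρ hB hB0).ne_zero
    rw [Fintype.card_fin] at heven
    have hnd : n = charDegree (χ : G → ℂ) := by
      have h2 := CfsgLib.LinearTwist.apply_one_eq_charDegree (irr_isCharacter χ)
      rw [← he, Representation.char_one, Module.finrank_fin_fun] at h2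
      rw [← he]
      exact_mod_cast h2
    exact Nat.not_even_iff_odd.2 hodd (hnd ▸ heven)
  · exact absurd hreal hnr

/-- Conjugate characters have the same indicator. -/
theorem fsInd_galChar (σ : ℂ ≃+* ℂ) (χ : IrrCharacter G) :
    fsInd (galChar σ χ : G → ℂ) = fsInd (χ : G → ℂ) := by
  have h1 : fsInd (galChar σ χ : G → ℂ) = σ (fsInd (χ : G → ℂ)) := by
    rw [fsInd_eq_sum, fsInd_eq_sum, map_mul, map_inv₀, map_natCast, map_sum]
    rfl
  rcases fsInd_cases χ.2 with ⟨-, h | h⟩ | ⟨-, h⟩ <;> simp [h1, h]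

end CfsgLib.ReeOrder.Block
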