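import Cfsg.Agent.Lib.ReeOrder.Block.Rows
import Cfsg.Agent.Lib.ReeOrder.Block.Sign
import Cfsg.Agent.Lib.ReeOrder.Block.Pairs

/-!
The principal block at `t`: two possible configurations of the rows.
-/

set_option autoImplicit false
set_option linter.unusedSectionVars false
set_option linter.style.haveILetI false

namespace CfsgLib.ReeOrder.Block

open Cfsg CfsgLib.ReeType CfsgLib.Characters CfsgLib.JankoThompson CfsgLib.FrobSchur
open CfsgLib.JankoThompson.Shape (IsStd IsSeven)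
open scoped ComplexConjugate Classical

universe u

variable {G : Type u} [Group G] [Fintype G]
variable {F : Type} [Field F] [Fintype F] [DecidableEq F]
variable {t : G}

local notation "PSL2" => Matrix.ProjectiveSpecialLinearGroup (Fin 2) F

theorem pick {ι : Type*} [Fintype ι] [DecidableEq ι] (x : ι → ℤ) (i : ι) :
    ∑ y, (x y : ℂ) * (if y = i then 1 else 0) = (x i : ℂ) := by
  simp

/-- The integral columns of the three functions. -/
structure Columns (K : Conf t F) (D : HalfData F) (x : IrrCharacter G → Fin 3 → ℤ) : Prop where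
  inner : ∀ χ : IrrCharacter G, classInner ((toProj K).sec D.f0) (χ : G → ℂ) = (x χ 0 : ℂ) ∧
    classInner ((toProj K).sec D.g1) (χ : G → ℂ) = (x χ 1 : ℂ) ∧
    classInner ((toProj K).sec D.g2) (χ : G → ℂ) = (x χ 2 : ℂ)
  value : ∀ χ : IrrCharacter G, x χ ≠ 0 → ∀ k, Odd (orderOf k) →
    (χ : G → ℂ) (t * K.cent.up k) = (x χ 0 : ℂ) + (D.e : ℂ) *
      ((x χ 1 : ℂ) * (D.eta : Matrix.ProjectiveSpecialLinearGroup (Fin 2) F → ℂ) k +
        (x χ 2 : ℂ) * (D.eta' : Matrix.ProjectiveSpecialLinearGroup (Fin 2) F → ℂ) k)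
  deg : ∀ i, ∑ χ : IrrCharacter G, x χ i * (charDegree (χ : G → ℂ) : ℤ) = 0

variable (K : Conf t F) {D : HalfData F} {x : IrrCharacter G → Fin 3 → ℤ}

theorem term_eq (χ : IrrCharacter G) {s v : ℤ} (hs : s = 1 ∨ s = -1)
    (hv : (χ : G → ℂ) t = ((s * v : ℤ) : ℂ)) :
    (s : ℂ) * ((χ : G → ℂ) t ^ 2 / (χ : G → ℂ) 1) =
      ((((v : ℚ) ^ 2) / ((s * (charDegree (χ : G → ℂ) : ℤ) : ℤ) : ℚ) : ℚ) : ℂ) := by
  rw [hv, CfsgLib.LinearTwist.apply_one_eq_charDegree (irr_isCharacter χ)]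
  rcases hs with rfl | rfl <;> simp [div_neg]

include K

/-- The value at `t`. -/
theorem col_value (hx : Columns K D x) {χ : IrrCharacter G} (hne : x χ ≠ 0) {a b c : ℤ}
    (h : x χ 0 = a ∧ x χ 1 = b ∧ x χ 2 = c) :
    (χ : G → ℂ) t = ((a + (b + c) * ((sq K.q - 1) / 2) : ℤ) : ℂ) := by
  obtain ⟨rfl, rfl, rfl⟩ := h
  exact value_t K D (hx.value χ hne)

omit K in
theorem row_ne {χ : IrrCharacter G} {i : Fin 3} {e : ℤ} (he : e = 1 ∨ e = -1) (h : x χ i = e) :
    x χ ≠ 0 := fun h0 => by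
  rw [h0] at h
  simp at h
  omega

/-- The first row from the expansion of the first column. -/
theorem exists_firstRow (hx : Columns K D x) (a : Fin 3 → IrrCharacter G) (s v : Fin 3 → ℤ)
    (ha : Function.Injective a) (hne : ∀ i, a i ≠ principalIrr G) (hs : ∀ i, s i = 1 ∨ s i = -1)
    (h0 : ∀ i, x (a i) 0 = s i) (hv : ∀ i, (a i : G → ℂ) t = ((s i * v i : ℤ) : ℂ))
    (hexp : ∀ Fc : IrrCharacter G → ℂ, ∑ χ, (x χ 0 : ℂ) * Fc χ =
      Fc (principalIrr G) + (s 0 : ℂ) * Fc (a 0) + (s 1 : ℂ) * Fc (a 1) + (s 2 : ℂ) * Fc (a 2)) :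
    ∃ R : Conf.FirstRow K, R.v = v ∧
      R.u = fun i => s i * (charDegree (a i : G → ℂ) : ℤ) := by
  have hdeg1 : charDegree ((principalIrr G : IrrCharacter G) : G → ℂ) = 1 :=
    CfsgLib.SL2Char.Projective.charDegree_of_apply _ 1 (by simp [principalIrr])
  refine ⟨⟨a, s, fun i => s i * (charDegree (a i : G → ℂ) : ℤ), v, ha,
    fun i h => hne i (Subtype.ext h), hs, fun i => rfl, hv, fun i g hg => ?_, ?_⟩, rfl, rfl⟩
  · rw [value_tx K D (hx.value _ (row_ne (hs i) (h0 i))) hg, h0 i]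
  refine ⟨fun i => ?_, ?_, fun i => ?_, ?_⟩
  · have h2 : 2 ≤ charDegree (a i : G → ℂ) :=
      two_le_degree K (a i) fun h => hne i (Subtype.ext h)
    rw [abs_mul, show |s i| = 1 by rcases hs i with e | e <;> simp [e], one_mul, Nat.abs_cast]
    exact_mod_cast h2
  · have h := hexp fun χ => ((charDegree (χ : G → ℂ) : ℤ) : ℂ)
    have hd := congrArg (fun z : ℤ => (z : ℂ)) (hx.deg 0)
    simp only [Int.cast_sum, Int.cast_mul, Int.cast_zero] at hd
    rw [hd, hdeg1] at h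
    refine Int.cast_injective (α := ℂ) ?_
    push_cast at h ⊢
    linear_combination -h
  · obtain ⟨w, hw⟩ := eight_dvd K (a i) (hv i)
    refine ⟨s i * w, ?_⟩
    rcases hs i with e | e <;> rw [e] at hw ⊢ <;> linarith
  · have h := hexp fun χ => (χ : G → ℂ) t ^ 2 / (χ : G → ℂ) 1
    have hsum : ∑ χ : IrrCharacter G, (x χ 0 : ℂ) * ((χ : G → ℂ) t ^ 2 / (χ : G → ℂ) 1) =
        ((ratio K.q K.I : ℚ) : ℂ) := by
      rw [← (pair_sums K D).1]
      exact Finset.sum_congr rfl fun χ _ => by rw [(hx.inner χ).1, mul_div_assoc]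
    rw [hsum, term_eq _ (hs 0) (hv 0), term_eq _ (hs 1) (hv 1), term_eq _ (hs 2) (hv 2),
      show ((principalIrr G : IrrCharacter G) : G → ℂ) = (fun _ => 1) from rfl] at h
    refine Rat.cast_injective (α := ℂ) ?_
    simp only [Rat.cast_add, Rat.cast_one]
    linear_combination -h

/-- The second order equation. -/
theorem eq_g1 (hx : Columns K D x) :
    ∑ χ : IrrCharacter G, (x χ 1 : ℂ) * ((χ : G → ℂ) t ^ 2 / (χ : G → ℂ) 1) =
      ((ratio₂ K.q * ratio K.q K.I : ℚ) : ℂ) := by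
  rw [← (pair_sums K D).2.1]
  exact Finset.sum_congr rfl fun χ _ => by rw [(hx.inner χ).2.1, mul_div_assoc]

/-- The degrees on the second column. -/
theorem deg_g1 (hx : Columns K D x) :
    ∑ χ : IrrCharacter G, (x χ 1 : ℂ) * ((charDegree (χ : G → ℂ) : ℤ) : ℂ) = 0 := by
  have hd := congrArg (fun z : ℤ => (z : ℂ)) (hx.deg 1)
  simpa only [Int.cast_sum, Int.cast_mul, Int.cast_zero] using hd

/-- Both last columns avoid the same member of the first row. -/
theorem sameZero_of_std (hx : Columns K D x) {f : Fin 7 → IrrCharacter G} {e : Fin 7 → ℤ}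
    (h : IsStd (principalIrr G) (fun χ => x χ 0) (fun χ => x χ 1) (fun χ => x χ 2) f e) :
    ∃ R : Conf.FirstRow K, SameZero K.q K.I R.u R.v := by
  obtain ⟨hinj, hpm, A0, A1, A2⟩ := h
  obtain ⟨-, -, -, hh⟩ := half_one K D
  set H := (sq K.q - 1) / 2 with hH
  have row : ∀ j : Fin 7, x (f j) 0 = (if j = 0 ∨ j = 1 ∨ j = 2 then e j else 0) ∧
      x (f j) 1 = (if j = 0 ∨ j = 1 ∨ j = 3 ∨ j = 4 then e j else 0) ∧
      x (f j) 2 = (if j = 0 ∨ j = 1 ∨ j = 5 ∨ j = 6 then e j else 0) := by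
    intro j
    have a0 := A0 fun y => if y = f j then 1 else 0
    have a1 := A1 fun y => if y = f j then 1 else 0
    have a2 := A2 fun y => if y = f j then 1 else 0
    rw [pick (fun χ => x χ 0)] at a0
    rw [pick (fun χ => x χ 1)] at a1
    rw [pick (fun χ => x χ 2)] at a2
    simp only [hinj.eq_iff, (hpm j).1.symm, if_false, zero_add] at a0 a1 a2
    refine ⟨?_, ?_, ?_⟩ <;> refine Int.cast_injective (α := ℂ) ?_
    · rw [a0]; fin_cases j <;> simp
    · rw [a1]; fin_cases j <;> simp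
    · rw [a2]; fin_cases j <;> simp
  have r0 : x (f 0) 0 = e 0 ∧ x (f 0) 1 = e 0 ∧ x (f 0) 2 = e 0 := by simpa using row 0
  have r1 : x (f 1) 0 = e 1 ∧ x (f 1) 1 = e 1 ∧ x (f 1) 2 = e 1 := by simpa using row 1
  have r2 : x (f 2) 0 = e 2 ∧ x (f 2) 1 = 0 ∧ x (f 2) 2 = 0 := by simpa using row 2
  have r3 : x (f 3) 0 = 0 ∧ x (f 3) 1 = e 3 ∧ x (f 3) 2 = 0 := by simpa using row 3
  have r4 : x (f 4) 0 = 0 ∧ x (f 4) 1 = e 4 ∧ x (f 4) 2 = 0 := by simpa using row 4
  have val : ∀ (j : Fin 7) (i : Fin 3) (w : ℤ) (a b c : ℤ),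
      (x (f j) 0 = a ∧ x (f j) 1 = b ∧ x (f j) 2 = c) → x (f j) i = e j →
      a + (b + c) * H = e j * w → (f j : G → ℂ) t = ((e j * w : ℤ) : ℂ) := fun j i w a b c hr hi hw => by
    rw [col_value K hx (row_ne (hpm j).2 hi) hr, ← hH, hw]
  have v0 := val 0 0 (sq K.q) _ _ _ r0 r0.1 (by rw [show sq K.q = 2 * H + 1 by omega]; ring)
  have v1 := val 1 0 (sq K.q) _ _ _ r1 r1.1 (by rw [show sq K.q = 2 * H + 1 by omega]; ring)
  have v2 := val 2 0 1 _ _ _ r2 r2.1 (by ring)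
  have v3 := val 3 1 H _ _ _ r3 r3.2.1 (by ring)
  have v4 := val 4 1 H _ _ _ r4 r4.2.1 (by ring)
  obtain ⟨R, hRv, hRu⟩ := exists_firstRow K hx ![f 2, f 0, f 1] ![e 2, e 0, e 1] ![1, sq K.q, sq K.q]
    (by intro i j hij; fin_cases i <;> fin_cases j <;> simp [hinj.eq_iff] at hij ⊢)
    (by intro i; fin_cases i <;> simp [(hpm _).1])
    (by intro i; fin_cases i <;> simp [(hpm _).2])
    (by intro i; fin_cases i <;> simp [r0.1, r1.1, r2.1])
    (by intro i; fin_cases i <;> simp [v0, v1, v2])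
    (fun Fc => by rw [A0 Fc]; simp; ring)
  refine ⟨R, ?_⟩
  set P := e 3 * (charDegree (f 3 : G → ℂ) : ℤ) with hP
  set P' := e 4 * (charDegree (f 4 : G → ℂ) : ℤ) with hP'
  have pne : ∀ j, e j * (charDegree (f j : G → ℂ) : ℤ) ≠ 0 := fun j =>
    mul_ne_zero (by rcases (hpm j).2 with h | h <;> omega)
      (by have := CfsgLib.PrincipalSq.charDegree_pos (f j); omega)
  rw [hRu, hRv]
  refine ⟨rfl, rfl, rfl, P, P', pne 3, pne 4, ?_, ?_⟩
  · have h := A1 fun χ => ((charDegree (χ : G → ℂ) : ℤ) : ℂ)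
    rw [deg_g1 K hx] at h
    refine Int.cast_injective (α := ℂ) ?_
    simp [P, P'] at h ⊢
    linear_combination -h
  · have h := A1 fun χ => (χ : G → ℂ) t ^ 2 / (χ : G → ℂ) 1
    rw [eq_g1 K hx, term_eq _ (hpm 0).2 v0, term_eq _ (hpm 1).2 v1, term_eq _ (hpm 3).2 v3,
      term_eq _ (hpm 4).2 v4] at h
    have hHQ : (((sq K.q : ℚ)) - 1) / 2 = (H : ℚ) := by
      have : (2 : ℚ) * (H : ℚ) = (sq K.q : ℚ) - 1 := by exact_mod_cast hh
      linarith
    rw [hHQ]
    refine Rat.cast_injective (α := ℂ) ?_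
    simp [P, P', div_eq_mul_inv] at h ⊢
    linear_combination -h

/-- The two last columns avoid different members of the first row. -/
theorem twisted_of_seven (hx : Columns K D x) {f : Fin 6 → IrrCharacter G} {e : Fin 6 → ℤ}
    (h : IsSeven (principalIrr G) (fun χ => x χ 0) (fun χ => x χ 1) (fun χ => x χ 2) f e) :
    ∃ R : Conf.FirstRow K, Twisted K.q K.I R.u R.v := by
  obtain ⟨hinj, hpm, A0, A1, A2⟩ := h
  obtain ⟨-, -, hQe, hh⟩ := half_one K D
  set H := (sq K.q - 1) / 2 with hH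
  have row : ∀ j : Fin 6, x (f j) 0 = (if j = 0 ∨ j = 1 ∨ j = 2 then e j else 0) ∧
      x (f j) 1 = (if j = 0 ∨ j = 1 ∨ j = 3 ∨ j = 4 then e j else 0) ∧
      x (f j) 2 = (if j = 0 ∨ j = 2 ∨ j = 3 ∨ j = 5 then e j else 0) := by
    intro j
    have a0 := A0 fun y => if y = f j then 1 else 0
    have a1 := A1 fun y => if y = f j then 1 else 0
    have a2 := A2 fun y => if y = f j then 1 else 0
    rw [pick (fun χ => x χ 0)] at a0
    rw [pick (fun χ => x χ 1)] at a1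
    rw [pick (fun χ => x χ 2)] at a2
    simp only [hinj.eq_iff, (hpm j).1.symm, if_false, zero_add] at a0 a1 a2
    refine ⟨?_, ?_, ?_⟩ <;> refine Int.cast_injective (α := ℂ) ?_
    · rw [a0]; fin_cases j <;> simp
    · rw [a1]; fin_cases j <;> simp
    · rw [a2]; fin_cases j <;> simp
  have r0 : x (f 0) 0 = e 0 ∧ x (f 0) 1 = e 0 ∧ x (f 0) 2 = e 0 := by simpa using row 0
  have r1 : x (f 1) 0 = e 1 ∧ x (f 1) 1 = e 1 ∧ x (f 1) 2 = 0 := by simpa using row 1
  have r2 : x (f 2) 0 = e 2 ∧ x (f 2) 1 = 0 ∧ x (f 2) 2 = e 2 := by simpa using row 2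
  have r3 : x (f 3) 0 = 0 ∧ x (f 3) 1 = e 3 ∧ x (f 3) 2 = e 3 := by simpa using row 3
  have r4 : x (f 4) 0 = 0 ∧ x (f 4) 1 = e 4 ∧ x (f 4) 2 = 0 := by simpa using row 4
  have ne0 : ∀ j, e j ≠ 0 := fun j => by rcases (hpm j).2 with h | h <;> omega
  -- the members of the first row are known by their rows
  have supp : ∀ χ : IrrCharacter G, x χ 0 ≠ 0 →
      χ = principalIrr G ∨ χ = f 0 ∨ χ = f 1 ∨ χ = f 2 := by
    intro χ hχ
    have a0 := A0 fun y => if y = χ then 1 else 0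
    rw [pick (fun χ => x χ 0)] at a0
    by_contra hnot
    simp only [not_or] at hnot
    obtain ⟨ho, b0, b1, b2⟩ := hnot
    simp only [Ne.symm ho, Ne.symm b0, Ne.symm b1, Ne.symm b2, if_false, mul_zero, add_zero,
      Int.cast_eq_zero] at a0
    exact hχ a0
  have p1 : x (principalIrr G) 1 = 0 ∧ x (principalIrr G) 2 = 0 := by
    have a1 := A1 fun y => if y = principalIrr G then 1 else 0
    have a2 := A2 fun y => if y = principalIrr G then 1 else 0
    rw [pick (fun χ => x χ 1)] at a1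
    rw [pick (fun χ => x χ 2)] at a2
    simp only [(hpm _).1, if_false, mul_zero, add_zero, Int.cast_eq_zero] at a1 a2
    exact ⟨a1, a2⟩
  have img : ∀ σ : ℂ ≃+* ℂ, (∀ k, σ ((D.eta : PSL2 → ℂ) k) = (D.eta' : PSL2 → ℂ) k ∧
      σ ((D.eta' : PSL2 → ℂ) k) = (D.eta : PSL2 → ℂ) k ∧
      σ ((D.St : PSL2 → ℂ) k) = (D.St : PSL2 → ℂ) k) →
      galChar σ (f 0) = f 0 ∧ (galChar σ (f 1) = f 2 ∧ e 1 = e 2) ∧ galChar σ (f 2) = f 1 := by
    intro σ hσ
    obtain ⟨a0, a1, a2⟩ := coeff_swap K D hx.inner hσ (f 0)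
    obtain ⟨b0, b1, b2⟩ := coeff_swap K D hx.inner hσ (f 1)
    obtain ⟨c0, c1, c2⟩ := coeff_swap K D hx.inner hσ (f 2)
    rw [r0.1] at a0; rw [r0.2.2] at a1; rw [r0.2.1] at a2
    rw [r1.1] at b0; rw [r1.2.2] at b1; rw [r1.2.1] at b2
    rw [r2.1] at c0; rw [r2.2.2] at c1; rw [r2.2.1] at c2
    refine ⟨?_, ?_, ?_⟩
    · rcases supp _ (by rw [a0]; exact ne0 0) with e' | e' | e' | e'
      · rw [e', p1.1] at a1; exact absurd a1.symm (ne0 0)
      · exact e'
      · rw [e', r1.2.2] at a2; exact absurd a2.symm (ne0 0)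
      · rw [e', r2.2.1] at a1; exact absurd a1.symm (ne0 0)
    · rcases supp _ (by rw [b0]; exact ne0 1) with e' | e' | e' | e'
      · rw [e', p1.2] at b2; exact absurd b2.symm (ne0 1)
      · rw [e', r0.2.1] at b1; exact absurd b1 (ne0 0)
      · rw [e', r1.2.1] at b1; exact absurd b1 (ne0 1)
      · rw [e', r2.1] at b0; exact ⟨e', b0.symm⟩
    · rcases supp _ (by rw [c0]; exact ne0 2) with e' | e' | e' | e'
      · rw [e', p1.1] at c1; exact absurd c1.symm (ne0 2)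
      · rw [e', r0.2.2] at c2; exact absurd c2 (ne0 0)
      · exact e'
      · rw [e', r2.2.2] at c2; exact absurd c2 (ne0 2)
  obtain ⟨σ, hσ⟩ := D.swap
  obtain ⟨-, ⟨s12, e12⟩, -⟩ := img σ hσ
  have hdeg12 : charDegree (f 2 : G → ℂ) = charDegree (f 1 : G → ℂ) := by
    have h1 := congrFun (congrArg Subtype.val s12) 1
    simp only [galChar] at h1
    rw [CfsgLib.LinearTwist.apply_one_eq_charDegree (irr_isCharacter (f 1)), map_natCast,
      CfsgLib.LinearTwist.apply_one_eq_charDegree (irr_isCharacter (f 2))] at h1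
    exact (Nat.cast_injective h1).symm
  have val : ∀ (j : Fin 6) (i : Fin 3) (w : ℤ) (a b c : ℤ),
      (x (f j) 0 = a ∧ x (f j) 1 = b ∧ x (f j) 2 = c) → x (f j) i = e j →
      a + (b + c) * H = e j * w → (f j : G → ℂ) t = ((e j * w : ℤ) : ℂ) := fun j i w a b c hr hi hw => by
    rw [col_value K hx (row_ne (hpm j).2 hi) hr, ← hH, hw]
  have v0 := val 0 0 (sq K.q) _ _ _ r0 r0.1 (by rw [show sq K.q = 2 * H + 1 by omega]; ring)
  have v1 := val 1 0 (H + 1) _ _ _ r1 r1.1 (by ring)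
  have v2 := val 2 0 (H + 1) _ _ _ r2 r2.1 (by ring)
  have v3 := val 3 1 (2 * H) _ _ _ r3 r3.2.1 (by ring)
  have v4 := val 4 1 H _ _ _ r4 r4.2.1 (by ring)
  obtain ⟨R, hRv, hRu⟩ := exists_firstRow K hx ![f 0, f 1, f 2] ![e 0, e 1, e 2] ![sq K.q, H + 1, H + 1]
    (by intro i j hij; fin_cases i <;> fin_cases j <;> simp [hinj.eq_iff] at hij ⊢)
    (by intro i; fin_cases i <;> simp [(hpm _).1])
    (by intro i; fin_cases i <;> simp [(hpm _).2])
    (by intro i; fin_cases i <;> simp [r0.1, r1.1, r2.1])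
    (by intro i; fin_cases i <;> simp [v0, v1, v2])
    (fun Fc => by rw [A0 Fc]; simp)
  -- the sign of the common member
  have hnu : 1 + (e 0 : ℂ) * fsInd (f 0 : G → ℂ) + (e 1 : ℂ) * fsInd (f 1 : G → ℂ) +
      (e 2 : ℂ) * fsInd (f 2 : G → ℂ) = 0 := by
    have h := sum_indicator K D.f0_odd
    simp only [(hx.inner _).1] at h
    rw [A0 fun χ => fsInd (χ : G → ℂ), CfsgLib.Indicator.fsInd_principal] at h
    exact h
  have hQodd : Odd (sq K.q) := ⟨H, by omega⟩
  have hD0odd : Odd (charDegree (f 0 : G → ℂ)) := by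
    obtain ⟨w, hw⟩ := eight_dvd K (f 0) v0
    obtain ⟨m, hm⟩ := hQodd
    rw [Nat.odd_iff]
    rcases (hpm 0).2 with h | h <;> rw [h] at hw <;> omega
  set cj : ℂ ≃+* ℂ := Complex.conjAe.toRingEquiv
  have hreal : ∀ χ : IrrCharacter G, galChar cj χ = χ → ∀ g, ((χ : G → ℂ) g).im = 0 := fun χ h g =>
    Complex.conj_eq_iff_im.1 (congrFun (congrArg Subtype.val h) g)
  have he0 : e 0 = -D.e := by
    rcases D.e_cases with he | he
    · obtain ⟨i0, ⟨i1, -⟩, i2⟩ := img cj fun k => ⟨(D.conj_pos he k).1, (D.conj_pos he k).2, D.conj_St k⟩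
      have nr : ∀ a b : IrrCharacter G, galChar cj a = b → a ≠ b → fsInd (a : G → ℂ) = 0 := by
        intro a b hab hne
        rw [fsInd_eq_zero_iff a.2]
        intro hr
        exact hne (Eq.trans (Subtype.ext (funext fun g => (Complex.conj_eq_iff_im.2 (hr g)).symm)) hab)
      rw [fsInd_one K (hreal _ i0) hD0odd, nr _ _ i1 (hinj.ne (by decide)),
        nr _ _ i2 (hinj.ne (by decide))] at hnu
      simp only [mul_one, mul_zero, add_zero] at hnu
      have : 1 + e 0 = 0 := by exact_mod_cast hnu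
      omega
    · have hfix := coeff_fix K D hx.inner (σ := cj)
        fun k => ⟨(D.conj_neg he k).1, (D.conj_neg he k).2, D.conj_St k⟩
      have fixed : ∀ j, (j = 0 ∨ j = 1) → galChar cj (f j) = f j := by
        intro j hj
        obtain ⟨a0, a1, a2⟩ := hfix (f j)
        rcases hj with rfl | rfl
        · rw [r0.1] at a0; rw [r0.2.1] at a1; rw [r0.2.2] at a2
          rcases supp _ (by rw [a0]; exact ne0 0) with e' | e' | e' | e'
          · rw [e', p1.1] at a1; exact absurd a1.symm (ne0 0)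
          · exact e'
          · rw [e', r1.2.2] at a2; exact absurd a2.symm (ne0 0)
          · rw [e', r2.2.1] at a1; exact absurd a1.symm (ne0 0)
        · rw [r1.1] at a0; rw [r1.2.1] at a1; rw [r1.2.2] at a2
          rcases supp _ (by rw [a0]; exact ne0 1) with e' | e' | e' | e'
          · rw [e', p1.1] at a1; exact absurd a1.symm (ne0 1)
          · rw [e', r0.2.2] at a2; exact absurd a2 (ne0 0)
          · exact e'
          · rw [e', r2.2.1] at a1; exact absurd a1.symm (ne0 1)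
      rw [fsInd_one K (hreal _ (fixed 0 (Or.inl rfl))) hD0odd, ← s12, fsInd_galChar K σ, ← e12] at hnu
      rcases fsInd_cases (f 1).2 with ⟨-, h | h⟩ | ⟨hn, -⟩
      · rw [h] at hnu
        simp only [mul_one] at hnu
        have : 1 + e 0 + e 1 + e 1 = 0 := by exact_mod_cast hnu
        have := (hpm 0).2; have := (hpm 1).2
        omega
      · rw [h] at hnu
        simp only [mul_one, mul_neg] at hnu
        have : 1 + e 0 + -e 1 + -e 1 = 0 := by exact_mod_cast hnu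
        have := (hpm 0).2; have := (hpm 1).2
        omega
      · exact absurd (hreal _ (fixed 1 (Or.inr rfl))) hn
  refine ⟨R, ?_⟩
  set u1 := e 1 * (charDegree (f 1 : G → ℂ) : ℤ) with hu1
  set u0 := e 0 * (charDegree (f 0 : G → ℂ) : ℤ) with hu0
  have hu2 : e 2 * (charDegree (f 2 : G → ℂ) : ℤ) = u1 := by rw [hdeg12, ← e12]
  have hsum := R.num.deg_sum
  rw [hRu] at hsum ⊢
  rw [hRv]
  simp only [Matrix.cons_val_zero, Matrix.cons_val_one, Matrix.cons_val] at hsum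
  rw [hu2] at hsum
  set P := e 3 * (charDegree (f 3 : G → ℂ) : ℤ) with hP
  set Rr := e 4 * (charDegree (f 4 : G → ℂ) : ℤ) with hR
  have pne : ∀ j, e j * (charDegree (f j : G → ℂ) : ℤ) ≠ 0 := fun j =>
    mul_ne_zero (ne0 j) (by have := CfsgLib.PrincipalSq.charDegree_pos (f j); omega)
  refine ⟨rfl, ?_, rfl, hu2, ?_, P, Rr, pne 3, pne 4, ?_, ?_⟩
  · show 2 * (H + 1) = _
    omega
  · show 0 < u1 * sq K.q
    have hd0 : 2 ≤ charDegree (f 0 : G → ℂ) :=
      two_le_degree K (f 0) fun h => (hpm 0).1 (Subtype.ext h)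
    rw [← hu1, he0] at hsum
    have hqpos : (0 : ℤ) < (Fintype.card F : ℤ) := by exact_mod_cast Fintype.card_pos
    rw [hQe]
    rcases D.e_cases with he | he <;> rw [he] at hsum ⊢
    · exact mul_pos (by omega) (by omega)
    · exact mul_pos_of_neg_of_neg (by omega) (by omega)
  · show P + Rr = 1 + u1
    have h := A1 fun χ => ((charDegree (χ : G → ℂ) : ℤ) : ℂ)
    rw [deg_g1 K hx] at h
    have h' : 0 = u0 + u1 + P + Rr := by
      refine Int.cast_injective (α := ℂ) ?_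
      simp [P, Rr, u0, u1] at h ⊢
      linear_combination h
    omega
  · have h := A1 fun χ => (χ : G → ℂ) t ^ 2 / (χ : G → ℂ) 1
    rw [eq_g1 K hx, term_eq _ (hpm 0).2 v0, term_eq _ (hpm 1).2 v1, term_eq _ (hpm 3).2 v3,
      term_eq _ (hpm 4).2 v4] at h
    have hHQ : (((sq K.q : ℚ)) - 1) / 2 = (H : ℚ) := by
      have : (2 : ℚ) * (H : ℚ) = (sq K.q : ℚ) - 1 := by exact_mod_cast hh
      linarith
    rw [hHQ]
    refine Rat.cast_injective (α := ℂ) ?_
    simp [P, Rr, div_eq_mul_inv] at h ⊢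
    linear_combination -h

/-- The principal block at `t`. -/
theorem blockData : K.BlockData := by
  obtain ⟨M, hM⟩ := CfsgLib.KGV.exists_isPModular 2 Nat.prime_two
  obtain ⟨D⟩ := exists_halfData (F := F) K.q_mod (q_five K)
  obtain ⟨x, hx, hp0, hp1, hp2, n0, n1, n2, h10, h20, h12, hdeg⟩ := exists_columns K D hM
  have hC : Columns K D x :=
    ⟨fun χ => ⟨(hx χ).1, (hx χ).2.1, (hx χ).2.2.1⟩, fun χ => (hx χ).2.2.2, hdeg⟩
  rcases CfsgLib.JankoThompson.Shape.gram_shape (o := principalIrr G) (x₀ := fun χ => x χ 0)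
      (x₁ := fun χ => x χ 1) (x₂ := fun χ => x χ 2)
      (D := fun χ : IrrCharacter G => (charDegree (χ : G → ℂ) : ℤ)) hp0 hp1 hp2 n0 n1 n2 h10 h20 h12
      (fun χ => by have := CfsgLib.PrincipalSq.charDegree_pos χ; omega) (hdeg 1) (hdeg 2) with
    ⟨f, e, h⟩ | ⟨f, e, h⟩
  · obtain ⟨R, hR⟩ := sameZero_of_std K hC h
    exact ⟨R, Or.inl hR⟩
  · obtain ⟨R, hR⟩ := twisted_of_seven K hC h
    exact ⟨R, Or.inr hR⟩

end CfsgLib.ReeOrder.Block

namespace CfsgLib.ReeOrder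

universe u

/-- The principal block at `t` has one of the two possible shapes. -/
theorem blockData {G : Type u} [Group G] [Fintype G] {F : Type} [Field F] [Fintype F] [DecidableEq F]
    {t : G} (K : Conf t F) : K.BlockData :=
  Block.blockData K

end CfsgLib.ReeOrder
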