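import Cfsg.Agent.Lib.ReeOrder.Block.Local
import Cfsg.Agent.Lib.Blocks.ThirdMain

/-!
The coefficients of the three functions on the section of `t`.
-/

set_option autoImplicit false
set_option linter.unusedSectionVars false
set_option linter.style.haveILetI false

namespace CfsgLib.ReeOrder.Block

open Cfsg CfsgLib.ReeType CfsgLib.Characters CfsgLib.Blocks CfsgLib.JankoThompson
open scoped ComplexConjugate Classical

universe u

variable {G : Type u} [Group G] [Fintype G]
variable {F : Type} [Field F] [Fintype F] [DecidableEq F]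
variable {t : G}

local notation "PSL2" => Matrix.ProjectiveSpecialLinearGroup (Fin 2) F

namespace HalfData

variable (D : HalfData F)

theorem e_cases : D.e = 1 ∨ D.e = -1 := D.q_mod.imp And.left And.left

theorem e_mul : (D.e : ℂ) * (D.e : ℂ) = 1 := by
  rcases D.e_cases with h | h <;> simp [h]

/-- The function of the first projective. -/
noncomputable def f0 : Matrix.ProjectiveSpecialLinearGroup (Fin 2) F → ℂ :=
  (fun _ => 1) + (D.e : ℂ) • (D.St : Matrix.ProjectiveSpecialLinearGroup (Fin 2) F → ℂ)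

/-- The second function. -/
noncomputable def g1 : Matrix.ProjectiveSpecialLinearGroup (Fin 2) F → ℂ :=
  (D.e : ℂ) • ((D.eta : Matrix.ProjectiveSpecialLinearGroup (Fin 2) F → ℂ) + D.St)

/-- The third function. -/
noncomputable def g2 : Matrix.ProjectiveSpecialLinearGroup (Fin 2) F → ℂ :=
  (D.e : ℂ) • ((D.eta' : Matrix.ProjectiveSpecialLinearGroup (Fin 2) F → ℂ) + D.St)

theorem f0_odd : OddSupport D.f0 := fun k hk => by
  simp only [f0, Pi.add_apply, Pi.smul_apply, smul_eq_mul, (D.even k hk).1]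
  linear_combination -D.e_mul

theorem g1_odd : OddSupport D.g1 := fun k hk => by
  simp only [g1, Pi.add_apply, Pi.smul_apply, smul_eq_mul, (D.even k hk).1, (D.even k hk).2.1]
  ring

theorem g2_odd : OddSupport D.g2 := fun k hk => by
  simp only [g2, Pi.add_apply, Pi.smul_apply, smul_eq_mul, (D.even k hk).1, (D.even k hk).2.2]
  ring

theorem st_ne_one : (D.St : PSL2 → ℂ) ≠ fun _ => 1 := fun h => by
  have h1 := D.St_one
  rw [h] at h1
  simp only at h1
  have : 1 = Fintype.card F := by exact_mod_cast h1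
  have := D.q_ge
  omega

theorem half_ne {χ : IrrCharacter PSL2} (h : 2 * (χ : PSL2 → ℂ) 1 = (Fintype.card F : ℂ) - (D.e : ℂ)) :
    (χ : PSL2 → ℂ) ≠ (fun _ => 1) ∧ (χ : PSL2 → ℂ) ≠ D.St := by
  have := D.q_ge
  constructor <;> intro h1
  · rw [h1] at h
    have h2 : (2 : ℤ) = (Fintype.card F : ℤ) - D.e := by
      have : ((2 : ℤ) : ℂ) = (((Fintype.card F : ℤ) - D.e : ℤ) : ℂ) := by
        push_cast; linear_combination h
      exact_mod_cast this
    rcases D.e_cases with e | e <;> omega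
  · rw [h1, D.St_one] at h
    have h2 : (Fintype.card F : ℤ) = -D.e := by
      have : ((Fintype.card F : ℤ) : ℂ) = ((-D.e : ℤ) : ℂ) := by
        push_cast; linear_combination h
      exact_mod_cast this
    rcases D.e_cases with e | e <;> omega

theorem odd_deg {χ : IrrCharacter PSL2}
    (h : (χ : PSL2 → ℂ) = (fun _ => 1) ∨ χ = D.St ∨ χ = D.eta ∨ χ = D.eta') :
    Odd (charDegree (χ : PSL2 → ℂ)) := by
  have hd := CfsgLib.LinearTwist.apply_one_eq_charDegree (irr_isCharacter χ)
  have := D.q_ge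
  have half : 2 * (χ : PSL2 → ℂ) 1 = (Fintype.card F : ℂ) - (D.e : ℂ) →
      Odd (charDegree (χ : PSL2 → ℂ)) := by
    intro h1
    rw [hd] at h1
    have h2 : (2 : ℤ) * (charDegree (χ : PSL2 → ℂ) : ℤ) = (Fintype.card F : ℤ) - D.e := by
      exact_mod_cast h1
    rw [Nat.odd_iff]
    rcases D.q_mod with ⟨e, h8⟩ | ⟨e, h8⟩ <;> omega
  rcases h with h | rfl | rfl | rfl
  · have h1 : (charDegree (χ : PSL2 → ℂ) : ℂ) = ((1 : ℕ) : ℂ) := by rw [← hd, h, Nat.cast_one]
    rw [Nat.cast_injective h1]; exact odd_one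
  · rw [D.St_one] at hd
    rw [← Nat.cast_injective hd, Nat.odd_iff]
    rcases D.q_mod with ⟨-, h8⟩ | ⟨-, h8⟩ <;> omega
  · exact half D.eta_one
  · exact half D.eta'_one

theorem inner_combos :
    classInner D.f0 (fun _ => 1) = 1 ∧ classInner D.f0 (D.eta : PSL2 → ℂ) = 0 ∧
    classInner D.f0 (D.eta' : PSL2 → ℂ) = 0 ∧
    classInner D.g1 (fun _ => 1) = 0 ∧ classInner D.g1 (D.eta : PSL2 → ℂ) = (D.e : ℂ) ∧
    classInner D.g1 (D.eta' : PSL2 → ℂ) = 0 ∧
    classInner D.g2 (fun _ => 1) = 0 ∧ classInner D.g2 (D.eta : PSL2 → ℂ) = 0 ∧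
    classInner D.g2 (D.eta' : PSL2 → ℂ) = (D.e : ℂ) ∧
    classInner D.f0 (D.St : PSL2 → ℂ) = (D.e : ℂ) ∧ classInner D.g1 (D.St : PSL2 → ℂ) = (D.e : ℂ) ∧
    classInner D.g2 (D.St : PSL2 → ℂ) = (D.e : ℂ) := by
  have hs := classInner_irr_self (G := PSL2) D.St.2
  have ha := classInner_irr_self (G := PSL2) D.eta.2
  have hb := classInner_irr_self (G := PSL2) D.eta'.2
  have h1 := classInner_irr_self (G := PSL2) isIrrCharacter_one
  obtain ⟨a1, as⟩ := D.half_ne D.eta_one
  obtain ⟨b1, bs⟩ := D.half_ne D.eta'_one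
  have hab : (D.eta : PSL2 → ℂ) ≠ D.eta' := fun h => D.ne (Subtype.ext h)
  simp only [f0, g1, g2, classInner_add_left, classInner_smul_left, hs, ha, hb, h1,
    classInner_irr_ne D.St.2 isIrrCharacter_one D.st_ne_one,
    classInner_irr_ne isIrrCharacter_one D.St.2 D.st_ne_one.symm,
    classInner_irr_ne D.St.2 D.eta.2 as.symm, classInner_irr_ne D.St.2 D.eta'.2 bs.symm,
    classInner_irr_ne D.eta.2 D.St.2 as, classInner_irr_ne D.eta'.2 D.St.2 bs,
    classInner_irr_ne D.eta.2 D.eta'.2 hab, classInner_irr_ne D.eta'.2 D.eta.2 hab.symm,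
    classInner_irr_ne D.eta.2 isIrrCharacter_one a1, classInner_irr_ne D.eta'.2 isIrrCharacter_one b1,
    classInner_irr_ne isIrrCharacter_one D.eta.2 a1.symm,
    classInner_irr_ne isIrrCharacter_one D.eta'.2 b1.symm]
  simp

theorem inner_other {χ : IrrCharacter PSL2}
    (h : ¬ ((χ : PSL2 → ℂ) = (fun _ => 1) ∨ χ = D.St ∨ χ = D.eta ∨ χ = D.eta')) :
    classInner D.f0 (χ : PSL2 → ℂ) = 0 ∧ classInner D.g1 (χ : PSL2 → ℂ) = 0 ∧
      classInner D.g2 (χ : PSL2 → ℂ) = 0 := by
  simp only [not_or] at h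
  obtain ⟨h1, hs, ha, hb⟩ := h
  simp only [f0, g1, g2, classInner_add_left, classInner_smul_left,
    classInner_irr_ne D.St.2 χ.2 (fun e => hs (Subtype.ext e).symm),
    classInner_irr_ne D.eta.2 χ.2 (fun e => ha (Subtype.ext e).symm),
    classInner_irr_ne D.eta'.2 χ.2 (fun e => hb (Subtype.ext e).symm),
    classInner_irr_ne isIrrCharacter_one χ.2 (fun e => h1 e.symm)]
  simp

theorem f_class : IsClassFunction PSL2 D.f0 ∧ IsClassFunction PSL2 D.g1 ∧
    IsClassFunction PSL2 D.g2 :=
  ⟨isClassFunction_add (irr_isClassFunction ⟨_, isIrrCharacter_one⟩)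
      (isClassFunction_smul (irr_isClassFunction D.St) _),
    isClassFunction_smul (isClassFunction_add (irr_isClassFunction D.eta)
      (irr_isClassFunction D.St)) _,
    isClassFunction_smul (isClassFunction_add (irr_isClassFunction D.eta')
      (irr_isClassFunction D.St)) _⟩

theorem f_gen : IsGeneralizedCharacter PSL2 D.f0 ∧ IsGeneralizedCharacter PSL2 D.g1 ∧
    IsGeneralizedCharacter PSL2 D.g2 :=
  ⟨isGeneralizedCharacter_add isGeneralizedCharacter_one
      (isGeneralizedCharacter_intCast_smul (isGeneralizedCharacter_irr D.St) _),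
    isGeneralizedCharacter_intCast_smul (isGeneralizedCharacter_add
      (isGeneralizedCharacter_irr D.eta) (isGeneralizedCharacter_irr D.St)) _,
    isGeneralizedCharacter_intCast_smul (isGeneralizedCharacter_add
      (isGeneralizedCharacter_irr D.eta') (isGeneralizedCharacter_irr D.St)) _⟩

/-- The Gram matrix of the three functions. -/
theorem gram :
    classInner D.f0 D.f0 = 2 ∧ classInner D.g1 D.g1 = 2 ∧ classInner D.g2 D.g2 = 2 ∧
      classInner D.g1 D.f0 = 1 ∧ classInner D.g2 D.f0 = 1 ∧ classInner D.g1 D.g2 = 1 := by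
  obtain ⟨a, b, c, d, e, f, g, h, i, j, k, l⟩ := D.inner_combos
  have hr : ∀ φ, classInner φ D.f0 = classInner φ (fun _ => 1) + (D.e : ℂ) * classInner φ D.St :=
    fun φ => by rw [f0, classInner_add_right, classInner_smul_right, map_intCast]
  have hr1 : ∀ φ, classInner φ D.g1 = (D.e : ℂ) * (classInner φ D.eta + classInner φ D.St) :=
    fun φ => by rw [g1, classInner_smul_right, classInner_add_right, map_intCast]
  have hr2 : ∀ φ, classInner φ D.g2 = (D.e : ℂ) * (classInner φ D.eta' + classInner φ D.St) :=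
    fun φ => by rw [g2, classInner_smul_right, classInner_add_right, map_intCast]
  rw [hr, hr1, hr2, hr, hr, hr2, a, d, e, f, g, i, j, k, l]
  refine ⟨?_, ?_, ?_, ?_, ?_, ?_⟩
  · linear_combination D.e_mul
  · linear_combination 2 * D.e_mul
  · linear_combination 2 * D.e_mul
  · linear_combination D.e_mul
  · linear_combination D.e_mul
  · linear_combination D.e_mul

end HalfData

variable (K : Conf t F)

/-- The centralizer as an extension of `Z₂`. -/
noncomputable def toProj (K : Conf t F) :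
    Proj t (Matrix.ProjectiveSpecialLinearGroup (Fin 2) F) where
  sg := (MonoidHom.fst _ _).comp K.cent.e.toMonoidHom
  proj := K.cent.kappa
  sg_t := congrArg Prod.fst K.cent.he
  proj_t := congrArg Prod.snd K.cent.he
  surj := fun y => ⟨K.cent.e.symm y, K.cent.e.apply_symm_apply y⟩
  ker_odd := by
    rw [show (((MonoidHom.fst _ _).comp K.cent.e.toMonoidHom).prod K.cent.kappa).ker = ⊥ from
      (MonoidHom.ker_eq_bot_iff _).2 fun a b h => K.cent.e.injective h, Subgroup.card_bot]
    exact odd_one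
  t_two := K.cent.orderOf_s

include K

theorem on_support {f : PSL2 → ℂ} {x : Subgroup.centralizer ({t} : Set G)}
    (hs : OddSupport f) (hx : (toProj K).phi f x ≠ 0) :
    (x : G) = t * K.cent.up ((toProj K).proj x) := by
  obtain ⟨h, -, -⟩ := (toProj K).phi_ne hs hx
  rcases cases_C K x with e | e
  · exfalso
    rw [e] at h
    have h1 : (K.cent.e (upC K (K.cent.kappa x))).1 = Multiplicative.ofAdd 1 := h
    rw [e_upC K] at h1
    exact (show (1 : Multiplicative (ZMod 2)) ≠ Multiplicative.ofAdd 1 by decide) h1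
  · exact congrArg Subtype.val e

theorem inner_sec (χ : IrrCharacter G) {f : PSL2 → ℂ} (hs : OddSupport f) :
    classInner ((toProj K).sec f) (χ : G → ℂ) =
      classInner f (fun k => (χ : G → ℂ) (t * K.cent.up k)) :=
  (toProj K).inner_of_val (irr_isClassFunction χ) fun x hx => by rw [← on_support K hs hx]

theorem inner_congr_odd {f φ ψ : PSL2 → ℂ} (hs : OddSupport f)
    (h : ∀ k, Odd (orderOf k) → φ k = ψ k) : classInner f φ = classInner f ψ := by
  unfold classInner
  congr 1
  refine Finset.sum_congr rfl fun k _ => ?_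
  rcases Nat.even_or_odd (orderOf k) with he | ho
  · rw [hs k he, zero_mul, zero_mul]
  · rw [h k ho]

variable (D : HalfData F) {M : Ideal AlgInt}

/-- The part of a character of `G` in the principal block of the centralizer. -/
theorem exists_span (hM : IsPModular 2 M) (χ : IrrCharacter G) :
    ∃ α β γ : ℂ,
      classInner ((toProj K).sec D.f0) (χ : G → ℂ) = conj α ∧
      classInner ((toProj K).sec D.g1) (χ : G → ℂ) = (D.e : ℂ) * conj β ∧
      classInner ((toProj K).sec D.g2) (χ : G → ℂ) = (D.e : ℂ) * conj γ ∧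
      ((∀ k, Odd (orderOf k) → (χ : G → ℂ) (t * K.cent.up k) =
          α + β * (D.eta : PSL2 → ℂ) k + γ * (D.eta' : PSL2 → ℂ) k) ∨
        (∀ k, Odd (orderOf k) → α + β * (D.eta : PSL2 → ℂ) k + γ * (D.eta' : PSL2 → ℂ) k = 0)) := by
  let C := Subgroup.centralizer ({t} : Set G)
  set B0 := principalBlock M C with hB0
  set Fn : C → ℂ := sectionFun t (χ : G → ℂ) with hFn
  have hFc : IsClassFunction C Fn := isClassFunction_sectionFun (irr_isClassFunction χ)
  choose res hres using exists_restrict K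
  have hform : ∀ ξ : IrrCharacter C, ∃ a b c : ℂ, ξ ∈ B0 → ∀ k, Odd (orderOf k) →
      (res ξ : PSL2 → ℂ) k = a + b * (D.eta : PSL2 → ℂ) k + c * (D.eta' : PSL2 → ℂ) k := by
    intro ξ
    by_cases hξ : ξ ∈ B0
    · rcases principal_list K D hM hξ (hres ξ) with h | h | h | h
      · exact ⟨1, 0, 0, fun _ k _ => by rw [h]; ring⟩
      · exact ⟨D.e, 1, 1, fun _ k hk => by rw [h, D.odd k hk]; ring⟩
      · exact ⟨0, 1, 0, fun _ k _ => by rw [h]; ring⟩
      · exact ⟨0, 0, 1, fun _ k _ => by rw [h]; ring⟩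
    · exact ⟨0, 0, 0, fun h => absurd h hξ⟩
  choose a b c habc using hform
  set S := Finset.univ.filter (fun ξ : IrrCharacter C => ξ ∈ B0)
  set α := ∑ ξ ∈ S, classInner Fn (ξ : C → ℂ) * a ξ
  set β := ∑ ξ ∈ S, classInner Fn (ξ : C → ℂ) * b ξ
  set γ := ∑ ξ ∈ S, classInner Fn (ξ : C → ℂ) * c ξ
  have hbp : ∀ k, Odd (orderOf k) → blockPart B0 Fn (upC K k) =
      α + β * (D.eta : PSL2 → ℂ) k + γ * (D.eta' : PSL2 → ℂ) k := by
    intro k hk
    rw [blockPart_eq_sum, Finset.sum_mul, Finset.sum_mul, ← Finset.sum_add_distrib,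
      ← Finset.sum_add_distrib]
    refine Finset.sum_congr rfl fun ξ hξ => ?_
    rw [← hres ξ k, habc ξ (Finset.mem_filter.1 hξ).2 k hk]
    ring
  have hinner : ∀ f : PSL2 → ℂ, OddSupport f →
      (∀ ψ : IrrCharacter PSL2,
        ¬ ((ψ : PSL2 → ℂ) = (fun _ => 1) ∨ ψ = D.St ∨ ψ = D.eta ∨ ψ = D.eta') →
          classInner f (ψ : PSL2 → ℂ) = 0) →
      classInner ((toProj K).sec f) (χ : G → ℂ) = conj α * classInner f (fun _ => 1) +
        conj β * classInner f (D.eta : PSL2 → ℂ) + conj γ * classInner f (D.eta' : PSL2 → ℂ) := by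
    intro f hs hf
    have hsplit : (fun k => (χ : G → ℂ) (t * K.cent.up k)) =
        (fun k => blockPart B0 Fn (upC K k)) +
          ∑ ξ ∈ Finset.univ.filter (fun ξ : IrrCharacter C => ξ ∉ B0),
            classInner Fn (ξ : C → ℂ) • (res ξ : PSL2 → ℂ) := by
      funext k
      show Fn (upC K k) = _
      conv_lhs => rw [classFunction_eq_sum hFc]
      simp only [Pi.add_apply, blockPart_eq_sum, Finset.sum_apply, Pi.smul_apply, smul_eq_mul,
        hres]
      exact (Finset.sum_filter_add_sum_filter_not _ _ _).symm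
    rw [inner_sec K χ hs, hsplit, classInner_add_right, classInner_sum_right,
      Finset.sum_eq_zero fun ξ hξ => ?_, add_zero,
      inner_congr_odd K hs (ψ := α • (fun _ => (1 : ℂ)) + β • (D.eta : PSL2 → ℂ) +
        γ • (D.eta' : PSL2 → ℂ)) fun k hk => by
          rw [hbp k hk]; simp,
      classInner_add_right, classInner_add_right, classInner_smul_right, classInner_smul_right,
      classInner_smul_right]
    rw [classInner_smul_right, hf _ fun hl => (Finset.mem_filter.1 hξ).2 ?_, mul_zero]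
    refine mem_principal_of_odd K hM ?_
    have hdeg := D.odd_deg hl
    have h1 := hres ξ 1
    rw [map_one, CfsgLib.LinearTwist.apply_one_eq_charDegree (irr_isCharacter (res ξ)),
      CfsgLib.LinearTwist.apply_one_eq_charDegree (irr_isCharacter ξ)] at h1
    rwa [← Nat.cast_injective h1]
  obtain ⟨i1, i2, i3, i4, i5, i6, i7, i8, i9, -, -, -⟩ := D.inner_combos
  refine ⟨α, β, γ, ?_, ?_, ?_, ?_⟩
  · rw [hinner _ D.f0_odd fun ψ h => (D.inner_other h).1, i1, i2, i3]; ring
  · rw [hinner _ D.g1_odd fun ψ h => (D.inner_other h).2.1, i4, i5, i6]; ring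
  · rw [hinner _ D.g2_odd fun ψ h => (D.inner_other h).2.2, i7, i8, i9]; ring
  have ht : ∃ k : ℕ, orderOf t = 2 ^ k := ⟨1, by rw [K.orderOf_t, pow_one]⟩
  have hnd : ∀ k : PSL2, Odd (orderOf k) → ¬ 2 ∣ orderOf (upC K k) := fun k hk => by
    rw [orderOf_upC]
    exact fun h => Nat.not_even_iff_odd.2 hk (even_iff_two_dvd.2 h)
  have hB : IsPBlock M B0 := isPBlock_principalBlock M
  by_cases hχ : χ ∈ principalBlock M G
  · refine Or.inl fun k hk => ?_
    rw [← hbp k hk]
    have hoff : blockPart B0ᶜ Fn (upC K k) = 0 := by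
      refine blockPart_union_eq_zero (A := B0ᶜ) hM
        (fun ξ η hξ hs hη => hξ ?_) fun ξ hξ =>
          blockPart_sectionFun_eq_zero hM ht (isPBlock_blockOf ξ) (fun hind => hξ ?_) (hnd k hk)
      · exact (IsPBlock.mem_iff hM hB hη ξ).2 (SameBlock.symm hM hs)
      · rw [← IsPBlock.eq_blockOf hM (isPBlock_principalBlock M) hχ] at hind
        have := (isInducedBlock_principal_iff hM _ ⟨_, hind⟩).1 hind
        show ξ ∈ principalBlock M C
        rw [← this]
        exact mem_blockOf_self hM ξ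
    rw [← add_zero (blockPart B0 Fn _), ← hoff]
    show Fn (upC K k) = _
    conv_lhs => rw [classFunction_eq_sum hFc]
    simp only [blockPart_eq_sum, Finset.sum_apply, Pi.smul_apply, smul_eq_mul, Set.mem_compl_iff]
    exact (Finset.sum_filter_add_sum_filter_not _ _ _).symm
  · refine Or.inr fun k hk => ?_
    rw [← hbp k hk]
    refine blockPart_sectionFun_eq_zero hM ht hB (fun hind => hχ ?_) (hnd k hk)
    obtain ⟨B', hB'⟩ := inducedBlockDefined_centralizer hM ht hB
    have h1 : IsInducedBlock M C B0 (principalBlock M G) :=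
      (isInducedBlock_principal_iff hM C ⟨B', hB'⟩).2 rfl
    rw [← IsInducedBlock.unique hM hind h1]
    exact mem_blockOf_self hM χ

/-- The integral coefficients of an irreducible character. -/
theorem exists_coeff (hM : IsPModular 2 M) (χ : IrrCharacter G) :
    ∃ x : Fin 3 → ℤ,
      classInner ((toProj K).sec D.f0) (χ : G → ℂ) = (x 0 : ℂ) ∧
      classInner ((toProj K).sec D.g1) (χ : G → ℂ) = (x 1 : ℂ) ∧
      classInner ((toProj K).sec D.g2) (χ : G → ℂ) = (x 2 : ℂ) ∧
      (x ≠ 0 → ∀ k, Odd (orderOf k) → (χ : G → ℂ) (t * K.cent.up k) =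
        (x 0 : ℂ) + (D.e : ℂ) *
          ((x 1 : ℂ) * (D.eta : PSL2 → ℂ) k + (x 2 : ℂ) * (D.eta' : PSL2 → ℂ) k)) := by
  obtain ⟨a0, a1, a2⟩ := D.f_gen
  obtain ⟨z0, hz0⟩ := classInner_generalized_int ((toProj K).sec_gen a0) (isGeneralizedCharacter_irr χ)
  obtain ⟨z1, hz1⟩ := classInner_generalized_int ((toProj K).sec_gen a1) (isGeneralizedCharacter_irr χ)
  obtain ⟨z2, hz2⟩ := classInner_generalized_int ((toProj K).sec_gen a2) (isGeneralizedCharacter_irr χ)
  obtain ⟨α, β, γ, e0, e1, e2, h⟩ := exists_span K D hM χ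
  have ea : α = (z0 : ℂ) := by
    have := congrArg conj (e0.symm.trans hz0)
    rwa [Complex.conj_conj, map_intCast] at this
  have eb : β = (D.e : ℂ) * (z1 : ℂ) := by
    have := congrArg conj (e1.symm.trans hz1)
    rw [map_mul, Complex.conj_conj, map_intCast, map_intCast] at this
    linear_combination (D.e : ℂ) * this - β * D.e_mul
  have ec : γ = (D.e : ℂ) * (z2 : ℂ) := by
    have := congrArg conj (e2.symm.trans hz2)
    rw [map_mul, Complex.conj_conj, map_intCast, map_intCast] at this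
    linear_combination (D.e : ℂ) * this - γ * D.e_mul
  subst ea; subst eb; subst ec
  refine ⟨![z0, z1, z2], hz0, hz1, hz2, fun hne k hk => ?_⟩
  simp only [Matrix.cons_val_zero, Matrix.cons_val_one, Matrix.cons_val]
  rcases h with h | h
  · rw [h k hk]; ring
  · exfalso
    apply hne
    set φ : PSL2 → ℂ := fun k => (z0 : ℂ) + (D.e : ℂ) * (z1 : ℂ) * (D.eta : PSL2 → ℂ) k +
      (D.e : ℂ) * (z2 : ℂ) * (D.eta' : PSL2 → ℂ) k
    have hφ : φ = (z0 : ℂ) • (fun _ => (1 : ℂ)) + ((D.e : ℂ) * (z1 : ℂ)) • (D.eta : PSL2 → ℂ) +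
        ((D.e : ℂ) * (z2 : ℂ)) • (D.eta' : PSL2 → ℂ) := by
      funext k; simp [φ]
    obtain ⟨i1, i2, i3, i4, i5, i6, i7, i8, i9, -, -, -⟩ := D.inner_combos
    have he0 : ∀ f : PSL2 → ℂ, OddSupport f → classInner f φ = 0 := fun f hs => by
      rw [inner_congr_odd K hs (ψ := fun _ => 0) h]
      simp [classInner]
    have k0 := he0 _ D.f0_odd
    have k1 := he0 _ D.g1_odd
    have k2 := he0 _ D.g2_odd
    simp only [hφ, classInner_add_right, classInner_smul_right, i1, i2, i3, i4, i5, i6, i7, i8, i9,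
      map_mul, map_intCast, mul_zero, add_zero, zero_add, mul_one] at k0 k1 k2
    rw [mul_right_comm, D.e_mul, one_mul] at k1 k2
    funext i
    fin_cases i <;> simp_all

/-- The coefficients of the principal character. -/
theorem inner_principal :
    classInner ((toProj K).sec D.f0) ((principalIrr G : IrrCharacter G) : G → ℂ) = 1 ∧
    classInner ((toProj K).sec D.g1) ((principalIrr G : IrrCharacter G) : G → ℂ) = 0 ∧
    classInner ((toProj K).sec D.g2) ((principalIrr G : IrrCharacter G) : G → ℂ) = 0 := by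
  obtain ⟨i1, -, -, i4, -, -, i7, -, -, -, -, -⟩ := D.inner_combos
  exact ⟨(inner_sec K _ D.f0_odd).trans i1, (inner_sec K _ D.g1_odd).trans i4,
    (inner_sec K _ D.g2_odd).trans i7⟩

/-- The Gram matrix of the columns. -/
theorem sec_gram :
    classInner ((toProj K).sec D.f0) ((toProj K).sec D.f0) = 4 ∧
    classInner ((toProj K).sec D.g1) ((toProj K).sec D.g1) = 4 ∧
    classInner ((toProj K).sec D.g2) ((toProj K).sec D.g2) = 4 ∧
    classInner ((toProj K).sec D.g1) ((toProj K).sec D.f0) = 2 ∧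
    classInner ((toProj K).sec D.g2) ((toProj K).sec D.f0) = 2 ∧
    classInner ((toProj K).sec D.g1) ((toProj K).sec D.g2) = 2 := by
  obtain ⟨c0, c1, c2⟩ := D.f_class
  obtain ⟨a, b, c, d, e, f⟩ := D.gram
  rw [(toProj K).sec_inner D.f0_odd D.f0_odd c0, (toProj K).sec_inner D.g1_odd D.g1_odd c1,
    (toProj K).sec_inner D.g2_odd D.g2_odd c2, (toProj K).sec_inner D.g1_odd D.f0_odd c0,
    (toProj K).sec_inner D.g2_odd D.f0_odd c0, (toProj K).sec_inner D.g1_odd D.g2_odd c2,
    a, b, c, d, e, f]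
  norm_num

end CfsgLib.ReeOrder.Block
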