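import Cfsg.Agent.Lib.ReeOrder.Block.Matrix
import Cfsg.Agent.Lib.ReeOrder.NumDefs
import Cfsg.Agent.Lib.SL2Char.Halves
import Cfsg.Agent.Lib.SL2Char.Blocks

/-!
Elements of `SL₂(q)` by the parity of the order of their image in `PSL₂(q)`, and the functions that
will be compared on them.
-/

set_option autoImplicit false
set_option linter.unusedSectionVars false

namespace CfsgLib.ReeOrder.Block

open Matrix Cfsg CfsgLib.ReeType CfsgLib.SL2Char CfsgLib.SL2Tori CfsgLib.Schur CfsgLib.Characters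

variable {F : Type} [Field F] [Fintype F] [DecidableEq F]

local notation "SL2" => Matrix.SpecialLinearGroup (Fin 2) F
local notation "M2" => Matrix (Fin 2) (Fin 2) F

theorem neg_one_sq' : (-1 : SL2) * -1 = 1 := Subtype.ext (by simp)

theorem trace_zero_of_sq {W : SL2} (h : W * W = -1) :
    (W : M2).trace = 0 ∧ (W : M2) * W = -1 := by
  have h' : (W : M2) * W = -1 := by
    rw [← Matrix.SpecialLinearGroup.coe_mul, h, neg_one_coe]
  refine ⟨?_, h'⟩
  have h1 := CfsgLib.SpecLin.SLTwo.sq_eq (W : M2) W.2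
  rw [h', eq_comm, sub_eq_iff_eq_add, neg_add_cancel] at h1
  refine (smul_eq_zero.1 h1).resolve_right fun e => ?_
  rw [e, zero_mul] at h'
  simpa using congrFun (congrFun h' 0) 0

theorem orderOf_prj_two (h2 : (2 : F) ≠ 0) {W : SL2} (h : W * W = -1) :
    orderOf (prj W) = 2 := by
  refine orderOf_eq_prime ?_ fun e => ?_
  · rw [← map_pow, pow_two, prj_eq_one]
    exact Or.inr h
  · rcases prj_eq_one.1 e with rfl | rfl
    · rw [one_mul] at h; exact neg_one_ne_one h2 h.symm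
    · rw [neg_one_sq'] at h; exact neg_one_ne_one h2 h.symm

theorem pow_of_isConj {g g' : SL2} (hc : IsConj g g') {n : ℕ} {z : SL2} (hz : z = 1 ∨ z = -1)
    (h : g ^ n = z) : g' ^ n = z := by
  obtain ⟨y, rfl⟩ := isConj_iff.1 hc
  rw [conj_pow, h]
  rcases hz with rfl | rfl
  · rw [mul_one, mul_inv_cancel]
  · rw [neg_one_central, mul_inv_cancel_right]

theorem exists_even_pow (h2 : (2 : F) ≠ 0) {g : SL2} (hg : Even (orderOf (prj g))) :
    ∃ m : ℕ, g ^ (2 * m) = -1 := by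
  obtain ⟨m, hm⟩ := hg
  have h0 : 0 < orderOf (prj g) := orderOf_pos _
  have hw : orderOf (prj (g ^ m)) = 2 := by
    rw [map_pow, orderOf_pow_of_dvd (by omega) ⟨2, by omega⟩, hm,
      Nat.div_eq_of_eq_mul_left (by omega) (by omega : m + m = 2 * m)]
  obtain ⟨hWW, -, -⟩ := CfsgLib.PSL2.lift_orderOf_two h2 hw
  refine ⟨m, Subtype.ext ?_⟩
  rw [mul_comm, pow_mul, pow_two, Matrix.SpecialLinearGroup.coe_mul, hWW, neg_one_coe]

theorem exists_odd_pow {g : SL2} (hg : Odd (orderOf (prj g))) :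
    ∃ k : ℕ, Odd k ∧ (g ^ k = 1 ∨ g ^ k = -1) :=
  ⟨_, hg, prj_eq_one.1 (by rw [map_pow, pow_orderOf_eq_one])⟩

theorem sq_pow_of_dvd {g : SL2} {b : ℕ} (h : orderOf (prj g) ∣ b) : g ^ (2 * b) = 1 := by
  have h1 : prj (g ^ b) = 1 := by rw [map_pow]; exact orderOf_dvd_iff_pow_eq_one.1 h
  rw [mul_comm, pow_mul, pow_two]
  rcases prj_eq_one.1 h1 with e | e <;> rw [e]
  · rw [one_mul]
  · exact neg_one_sq'

theorem uni_pow_even {ε : Fˣ} (hε : ε = 1 ∨ ε = -1) (b : F) (n : ℕ) :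
    (bEl ε b : SL2) ^ (2 * n) = (bEl (1 : Fˣ) (((2 * n : ℕ) : F) * ((ε : F) * b)) : SL2) := by
  rcases hε with rfl | rfl
  · rw [bEl_one_pow, Units.val_one, one_mul]
  · have e : (bEl (-1) b : SL2) = -1 * (bEl (1 : Fˣ) (-b) : SL2) := by
      rw [← neg_one_mul_bEl, ← mul_assoc, neg_one_sq', one_mul]
    have hc : Commute (-1 : SL2) (bEl (1 : Fˣ) (-b) : SL2) := (neg_one_central _).symm
    rw [e, hc.mul_pow, bEl_one_pow, pow_mul, pow_two, neg_one_sq', one_pow, one_mul]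
    simp

theorem uni_not_even (h2 : (2 : F) ≠ 0) {g : SL2} {ε : Fˣ} (hε : ε = 1 ∨ ε = -1) {b : F}
    (hc : IsConj g (bEl ε b : SL2)) {m : ℕ} (hm : g ^ (2 * m) = -1) : False := by
  have h := pow_of_isConj hc (Or.inr rfl) hm
  rw [uni_pow_even hε] at h
  have h' := congrArg (fun z : SL2 => (z : M2) 0 0) h
  simp only [bEl_coe, neg_one_coe] at h'
  refine h2 ?_
  simp at h'
  linear_combination h'

theorem uni_of_pow {g : SL2} {ε : Fˣ} (hε : ε = 1 ∨ ε = -1) {b : F} (hb : b ≠ 0)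
    (hc : IsConj g (bEl ε b : SL2)) {n : ℕ} (hn : g ^ (2 * n) = 1) : ((2 * n : ℕ) : F) = 0 := by
  have h := pow_of_isConj hc (Or.inl rfl) hn
  rw [uni_pow_even hε] at h
  have h' := congrArg (fun z : SL2 => (z : M2) 0 1) h
  simp only [bEl_coe, Matrix.SpecialLinearGroup.coe_one] at h'
  simp at h'
  rcases h' with h' | h'
  · push_cast
    rcases h' with e | e <;> simp [e]
  · exact absurd h' hb

theorem slDiag_inj {a b : Fˣ} (h : (slDiag a : SL2) = slDiag b) : a = b := Units.ext (by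
  simpa [slDiag_coe] using congrArg (fun z : SL2 => (z : M2) 0 0) h)

theorem slDiag_neg_one : (slDiag (-1 : Fˣ) : SL2) = -1 := Subtype.ext (by
  rw [slDiag_coe, neg_one_coe]
  ext i j
  fin_cases i <;> fin_cases j <;> simp)

theorem unit_pow_card_sub_one (a : Fˣ) : a ^ (Fintype.card F - 1) = 1 := Units.ext (by
  rw [Units.val_pow_eq_pow_val, Units.val_one, FiniteField.pow_card_sub_one_eq_one _ a.ne_zero])

theorem steinberg_hyp {g : SL2} (h2 : (2 : F) ≠ 0) (hg : Hyp (g : M2)) : steinberg g = 1 := by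
  have hst : IsClassFunction SL2 (steinberg (F := F)) :=
    irr_isClassFunction ⟨steinberg, isIrrCharacter_steinberg⟩
  obtain ⟨a, ha, hc⟩ := exists_diag_of_hyp h2 hg
  rw [classFunction_eq_of_isConj hst hc]
  simp [steinberg, slDiag_eq_bEl, ps_bEl_hyp 1 0 ha, MulChar.one_apply (a.isUnit),
    MulChar.one_apply (a.isUnit.inv)]

theorem steinberg_ell {g : SL2} (hg : NoRoot (g : M2)) : steinberg g = -1 := by
  simp [steinberg, ps_noRoot 1 hg]

theorem steinberg_unip {g : SL2} {ε : Fˣ} (hε : ε = 1 ∨ ε = -1) {b : F} (hb : b ≠ 0)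
    (hc : IsConj g (bEl ε b : SL2)) : steinberg g = 0 := by
  have hst : IsClassFunction SL2 (steinberg (F := F)) :=
    irr_isClassFunction ⟨steinberg, isIrrCharacter_steinberg⟩
  rw [classFunction_eq_of_isConj hst hc]
  simp [steinberg, ps_bEl_uni 1 hε hb, MulChar.one_apply ε.isUnit]

/-- A character trivial at `-1` only depends on the image. -/
theorem even_apply (χ : IrrCharacter SL2) (h : (χ : SL2 → ℂ) (-1) = (χ : SL2 → ℂ) 1) (g : SL2) :
    (χ : SL2 → ℂ) (-1 * g) = (χ : SL2 → ℂ) g := by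
  obtain ⟨s, -, e, e'⟩ := neg_sign χ
  rw [h] at e
  rw [e', show (s : ℂ) = 1 from
    mul_right_cancel₀ (irr_one_ne_zero χ) (by linear_combination -e), one_mul]

theorem uni_value (χ : IrrCharacter SL2) (h : (χ : SL2 → ℂ) (-1) = (χ : SL2 → ℂ) 1) {g : SL2}
    {ε : Fˣ} (hε : ε = 1 ∨ ε = -1) {b : F} (hc : IsConj g (bEl ε b : SL2)) :
    (χ : SL2 → ℂ) g = (χ : SL2 → ℂ) (bEl (1 : Fˣ) ((ε : F) * b) : SL2) := by
  rw [classFunction_eq_of_isConj (irr_isClassFunction χ) hc]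
  rcases hε with rfl | rfl
  · rw [Units.val_one, one_mul]
  · rw [← even_apply χ h, neg_one_mul_bEl]
    simp

theorem pow_two_h {c : SL2} {h : ℕ} (D : DSData c h) {g : SL2} (hg : NoRoot (g : M2)) :
    g ^ (2 * h) = 1 := by
  obtain ⟨n, hn⟩ := exists_conj_mem_nonsplit D.torus D.noRoot hg
  obtain ⟨i, hi⟩ := Subgroup.mem_zpowers_iff.1 hn
  rw [← conj_eq_one_iff (a := n), ← conj_pow, ← hi, ← zpow_natCast, ← _root_.zpow_mul, mul_comm,
    _root_.zpow_mul, zpow_natCast, ← D.torus.order, pow_orderOf_eq_one, _root_.one_zpow]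

theorem sq_of_two (hq : Fintype.card F % 8 = 3 ∨ Fintype.card F % 8 = 5) : ¬ IsSquare (2 : F) := by
  rw [FiniteField.isSquare_two_iff]
  omega

theorem oddTorus_eq {q : ℕ} :
    (q % 8 = 3 → oddTorus q = (q - 1) / 2) ∧ (q % 8 = 5 → oddTorus q = (q + 1) / 2) := by
  refine ⟨fun h => ?_, fun h => ?_⟩ <;> simp only [oddTorus, sq, h] <;> norm_num <;> omega

end CfsgLib.ReeOrder.Block
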