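import Cfsg.Agent.Lib.ReeOrder.Block.Elements

/-!
The two halves of `SL₂(q)`, `q ≡ 3, 5 (mod 8)`, that factor through `PSL₂(q)`.
-/

set_option autoImplicit false
set_option linter.unusedSectionVars false

namespace CfsgLib.ReeOrder.Block

open Matrix Cfsg CfsgLib.ReeType CfsgLib.SL2Char CfsgLib.SL2Tori CfsgLib.Schur CfsgLib.Characters

variable {F : Type} [Field F] [Fintype F] [DecidableEq F]

local notation "SL2" => Matrix.SpecialLinearGroup (Fin 2) F
local notation "M2" => Matrix (Fin 2) (Fin 2) F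

/-- The witness against membership of the principal block. -/
def SLExcl (χ : Matrix.SpecialLinearGroup (Fin 2) F → ℂ) : Prop :=
  (∃ W : Matrix.SpecialLinearGroup (Fin 2) F, W * W = -1 ∧ χ W = 0) ∨
    ∃ W X : Matrix.SpecialLinearGroup (Fin 2) F, W * W = -1 ∧ W * X = X * W ∧
      (∃ k : ℕ, Odd k ∧ X ^ k = 1) ∧ χ (W * X) ≠ χ W

/-- What is used of the two halves. -/
structure SLFacts (e : ℤ) (a b : IrrCharacter (Matrix.SpecialLinearGroup (Fin 2) F)) : Prop where
  q_mod : (e = 1 ∧ Fintype.card F % 8 = 3) ∨ (e = -1 ∧ Fintype.card F % 8 = 5)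
  deg_a : 2 * (a : Matrix.SpecialLinearGroup (Fin 2) F → ℂ) 1 = (Fintype.card F : ℂ) - (e : ℂ)
  deg_b : 2 * (b : Matrix.SpecialLinearGroup (Fin 2) F → ℂ) 1 = (Fintype.card F : ℂ) - (e : ℂ)
  neg_a : (a : Matrix.SpecialLinearGroup (Fin 2) F → ℂ) (-1) =
    (a : Matrix.SpecialLinearGroup (Fin 2) F → ℂ) 1
  neg_b : (b : Matrix.SpecialLinearGroup (Fin 2) F → ℂ) (-1) =
    (b : Matrix.SpecialLinearGroup (Fin 2) F → ℂ) 1
  sum_uni : ∀ x : F, x ≠ 0 → (a : Matrix.SpecialLinearGroup (Fin 2) F → ℂ) (bEl (1 : Fˣ) x) +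
    (b : Matrix.SpecialLinearGroup (Fin 2) F → ℂ) (bEl (1 : Fˣ) x) = -(e : ℂ)
  uni : ((a : Matrix.SpecialLinearGroup (Fin 2) F → ℂ) (bEl (1 : Fˣ) (1 : F)) -
    (b : Matrix.SpecialLinearGroup (Fin 2) F → ℂ) (bEl (1 : Fˣ) (1 : F))) ^ 2 =
      -(e : ℂ) * (Fintype.card F : ℂ)
  even : ∀ g, Even (orderOf (prj g)) → steinberg g = -(e : ℂ) ∧
    (a : Matrix.SpecialLinearGroup (Fin 2) F → ℂ) g = (e : ℂ) ∧
      (b : Matrix.SpecialLinearGroup (Fin 2) F → ℂ) g = (e : ℂ)
  odd : ∀ g, Odd (orderOf (prj g)) → steinberg g =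
    (a : Matrix.SpecialLinearGroup (Fin 2) F → ℂ) g +
      (b : Matrix.SpecialLinearGroup (Fin 2) F → ℂ) g + (e : ℂ)
  torus : ∀ g, prj g ≠ 1 → orderOf (prj g) ∣ oddTorus (Fintype.card F) →
    (a : Matrix.SpecialLinearGroup (Fin 2) F → ℂ) g = 0 ∧
      (b : Matrix.SpecialLinearGroup (Fin 2) F → ℂ) g = 0
  list : ∀ χ : IrrCharacter (Matrix.SpecialLinearGroup (Fin 2) F),
    (χ : Matrix.SpecialLinearGroup (Fin 2) F → ℂ) (-1) =
        (χ : Matrix.SpecialLinearGroup (Fin 2) F → ℂ) 1 →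
      (χ : Matrix.SpecialLinearGroup (Fin 2) F → ℂ) = (fun _ => 1) ∨
      (χ : Matrix.SpecialLinearGroup (Fin 2) F → ℂ) = steinberg ∨ χ = a ∨ χ = b ∨
      (((χ : Matrix.SpecialLinearGroup (Fin 2) F → ℂ) 1 = (Fintype.card F : ℂ) + 1 ∨
          (χ : Matrix.SpecialLinearGroup (Fin 2) F → ℂ) 1 = (Fintype.card F : ℂ) - 1) ∧
        SLExcl (χ : Matrix.SpecialLinearGroup (Fin 2) F → ℂ))

variable {c : Matrix.SpecialLinearGroup (Fin 2) F} {h : ℕ} {D : DSData c h}
variable {α₀ : MulChar F ℂ} {θ₀ : Subgroup.zpowers c →* ℂˣ}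
variable {η₁ η₂ χ₁ χ₂ : IrrCharacter (Matrix.SpecialLinearGroup (Fin 2) F)}

theorem sign_pair {z z' : ℂ} {s s' : ℤ} (hs : s = 1 ∨ s = -1) (hs' : s' = 1 ∨ s' = -1) {d : ℂ}
    (hd : d ≠ 0) (hz : z = s * d) (hz' : z' = s' * d) {k : ℤ} (hk : k = 1 ∨ k = -1)
    (hsum : z + z' = k * (2 * d)) : z = k * d ∧ z' = k * d := by
  have h1 : ((s + s' : ℤ) : ℂ) = ((2 * k : ℤ) : ℂ) :=
    mul_right_cancel₀ hd (by push_cast; linear_combination hsum - hz - hz')
  have h2 : s + s' = 2 * k := by exact_mod_cast h1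
  obtain ⟨rfl, rfl⟩ : s = k ∧ s' = k := by omega
  exact ⟨hz, hz'⟩

theorem chi_neg (T : Table D α₀ θ₀ η₁ η₂ χ₁ χ₂) :
    (χ₁ : SL2 → ℂ) (-1) = (-1 : ℂ) ^ h * (χ₁ : SL2 → ℂ) 1 ∧
      (χ₂ : SL2 → ℂ) (-1) = (-1 : ℂ) ^ h * (χ₂ : SL2 → ℂ) 1 := by
  have hq := T.three_le
  have e1 : (2 : ℂ) * (χ₁ : SL2 → ℂ) 1 + 1 = Fintype.card F := by
    rw [(apply_one_iff_charDegree χ₁ _).2 rfl]; exact_mod_cast T.chi_deg₁
  have e2 : (2 : ℂ) * (χ₂ : SL2 → ℂ) 1 + 1 = Fintype.card F := by
    rw [(apply_one_iff_charDegree χ₂ _).2 rfl]; exact_mod_cast T.chi_deg₂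
  have hd : (χ₂ : SL2 → ℂ) 1 = (χ₁ : SL2 → ℂ) 1 := by linear_combination (e2 - e1) / 2
  have hz := congrFun T.chi_sum (-1)
  rw [dsFun_neg_one, zsign_theta0 D T.theta_ne ((T.theta_sq θ₀).2 (Or.inr rfl)), Pi.add_apply] at hz
  obtain ⟨s, hs, es, -⟩ := neg_sign χ₁
  obtain ⟨s', hs', es', -⟩ := neg_sign χ₂
  rw [hd] at es'
  have hk : ∃ k : ℤ, (k = 1 ∨ k = -1) ∧ (-1 : ℂ) ^ h = (k : ℂ) := by
    rcases neg_one_pow_eq_or ℤ h with e | e
    · exact ⟨1, Or.inl rfl, by rw [← e]; push_cast; rfl⟩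
    · exact ⟨-1, Or.inr rfl, by rw [← e]; push_cast; rfl⟩
  obtain ⟨k, hk, hke⟩ := hk
  rw [hke] at hz ⊢
  obtain ⟨a1, a2⟩ := sign_pair hs hs' (irr_one_ne_zero χ₁) es es' hk
    (by linear_combination -hz + (k : ℂ) * (-e1))
  exact ⟨a1, by rw [hd]; exact a2⟩

theorem h_facts (_T : Table D α₀ θ₀ η₁ η₂ χ₁ χ₂) :
    (Fintype.card F % 8 = 3 → Even h ∧ ∃ r, h = 2 * r ∧ Odd r) ∧
      (Fintype.card F % 8 = 5 → Odd h) := by
  have := D.card_eq
  refine ⟨fun h3 => ⟨⟨h / 2, by omega⟩, h / 2, by omega, ⟨h / 4, by omega⟩⟩, fun h5 => ⟨h / 2, by omega⟩⟩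

theorem facts_three (T : Table D α₀ θ₀ η₁ η₂ χ₁ χ₂) (hq : Fintype.card F % 8 = 3)
    (hq5 : 5 < Fintype.card F) : SLFacts 1 χ₁ χ₂ := by
  classical
  have h2 : (2 : F) ≠ 0 := D.torus.two_ne
  have hcard := D.card_eq
  obtain ⟨hev, r, hr, hrodd⟩ := (h_facts T).1 hq
  have hne1 : (-1 : SL2) ≠ 1 := neg_one_ne_one h2
  have hα : α₀ (-1) = -1 := by rw [T.alpha_neg, hev.neg_one_pow]
  have hn1 : (χ₁ : SL2 → ℂ) (-1) = (χ₁ : SL2 → ℂ) 1 := by
    rw [(chi_neg T).1, hev.neg_one_pow, one_mul]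
  have hn2 : (χ₂ : SL2 → ℂ) (-1) = (χ₂ : SL2 → ℂ) 1 := by
    rw [(chi_neg T).2, hev.neg_one_pow, one_mul]
  have hns : ¬ IsSquare (-1 : F) := by rw [FiniteField.isSquare_neg_one_iff]; omega
  obtain ⟨e, he⟩ := exists_nonsquare_unit D.odd
  refine ⟨Or.inl ⟨rfl, hq⟩, ?_, ?_, hn1, hn2, fun x hx => ?_, ?_, fun g hg => ?_, fun g hg => ?_,
    fun g hg1 hgb => ?_, fun χ hχ => ?_⟩
  · rw [(apply_one_iff_charDegree χ₁ _).2 rfl, Int.cast_one, eq_sub_iff_add_eq]
    exact_mod_cast T.chi_deg₁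
  · rw [(apply_one_iff_charDegree χ₂ _).2 rfl, Int.cast_one, eq_sub_iff_add_eq]
    exact_mod_cast T.chi_deg₂
  · rw [T.chi_uni_sum hx, Int.cast_one]
  · rw [(T.swapped he).2.diff_sq T he, hα, Int.cast_one]
  · obtain ⟨m, hm⟩ := exists_even_pow h2 hg
    have hn : NoRoot (g : M2) := by
      rcases element_cases h2 g with rfl | rfl | hy | hn | ⟨ε, x, hε, -, hc⟩
      · rw [one_pow] at hm; exact absurd hm.symm hne1
      · rw [pow_mul, pow_two, neg_one_sq', one_pow] at hm; exact absurd hm.symm hne1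
      · obtain ⟨u, -, hc⟩ := exists_diag_of_hyp h2 hy
        have h1 := pow_of_isConj hc (Or.inr rfl) hm
        rw [← map_pow, ← slDiag_neg_one] at h1
        have h1' := congrArg Units.val (slDiag_inj h1)
        rw [Units.val_pow_eq_pow_val, Units.val_neg, Units.val_one] at h1'
        exact absurd ⟨(u : F) ^ m, by rw [← h1']; ring⟩ hns
      · exact hn
      · exact (uni_not_even h2 hε hc hm).elim
    have hgh : g ^ h ≠ 1 := fun e1 => by
      have h1 : (-1 : SL2) ^ r = 1 := by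
        rw [← hm, ← pow_mul, show 2 * m * r = h * m by rw [hr]; ring, pow_mul, e1, one_pow]
      rw [hrodd.neg_one_pow] at h1
      exact hne1 h1
    have hv : ∀ χ : IrrCharacter SL2, χ = χ₁ ∨ χ = χ₂ → (χ : SL2 → ℂ) g = 1 := fun χ hχ => by
      rw [T.chi_noRoot hχ hn, if_neg hgh]
    rw [steinberg_ell hn, hv χ₁ (Or.inl rfl), hv χ₂ (Or.inr rfl)]
    simp
  · obtain ⟨k, hk, hgk⟩ := exists_odd_pow hg
    rcases element_cases h2 g with rfl | rfl | hy | hn | ⟨ε, x, hε, hx, hc⟩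
    · have d1 : (2 : ℂ) * (χ₁ : SL2 → ℂ) 1 + 1 = Fintype.card F := by
        rw [(apply_one_iff_charDegree χ₁ _).2 rfl]; exact_mod_cast T.chi_deg₁
      have d2 : (2 : ℂ) * (χ₂ : SL2 → ℂ) 1 + 1 = Fintype.card F := by
        rw [(apply_one_iff_charDegree χ₂ _).2 rfl]; exact_mod_cast T.chi_deg₂
      rw [steinberg_one, Int.cast_one]
      linear_combination -(d1 + d2) / 2
    · have d1 : (2 : ℂ) * (χ₁ : SL2 → ℂ) 1 + 1 = Fintype.card F := by
        rw [(apply_one_iff_charDegree χ₁ _).2 rfl]; exact_mod_cast T.chi_deg₁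
      have d2 : (2 : ℂ) * (χ₂ : SL2 → ℂ) 1 + 1 = Fintype.card F := by
        rw [(apply_one_iff_charDegree χ₂ _).2 rfl]; exact_mod_cast T.chi_deg₂
      rw [steinberg_neg_one, hn1, hn2, Int.cast_one]
      linear_combination -(d1 + d2) / 2
    · rw [steinberg_hyp h2 hy, T.chi_hyp (Or.inl rfl) hy, T.chi_hyp (Or.inr rfl) hy]
      simp
    · have h1 : g ^ h = 1 := by
        have hh := pow_two_h D hn
        have h1 : (g ^ h) ^ 2 = 1 := by rw [← pow_mul, mul_comm, hh]
        have h2' : (g ^ h) ^ k = 1 := by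
          rw [← pow_mul, mul_comm, pow_mul]
          rcases hgk with e1 | e1 <;> rw [e1]
          · rw [one_pow]
          · rw [hev.neg_one_pow]
        obtain ⟨j, rfl⟩ := hk
        rwa [pow_succ, pow_mul, h1, one_pow, one_mul] at h2'
      rw [steinberg_ell hn, T.chi_noRoot (Or.inl rfl) hn, T.chi_noRoot (Or.inr rfl) hn, if_pos h1]
      norm_num
    · have hxne : (ε : F) * x ≠ 0 := mul_ne_zero ε.ne_zero hx
      rw [steinberg_unip hε hx hc, uni_value χ₁ hn1 hε hc, uni_value χ₂ hn2 hε hc,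
        T.chi_uni_sum hxne]
      simp
  · have hb := (oddTorus_eq (q := Fintype.card F)).1 hq
    have hpow := sq_pow_of_dvd hgb
    have key : Hyp (g : M2) := by
      rcases element_cases h2 g with rfl | rfl | hy | hn | ⟨ε, x, hε, hx, hc⟩
      · exact absurd (map_one _) hg1
      · exact absurd (prj_eq_one.2 (Or.inr rfl)) hg1
      · exact hy
      · have hh := pow_two_h D hn
        rw [show 2 * h = 2 * oddTorus (Fintype.card F) + 2 by omega, pow_add, hpow, one_mul] at hh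
        have := CfsgLib.PSL2.mem_center_of_sq_eq_one h2 hh
        rcases mem_center_iff.1 this with e1 | e1
        · exact absurd (prj_eq_one.2 (Or.inl e1)) hg1
        · exact absurd (prj_eq_one.2 (Or.inr e1)) hg1
      · have h0 := uni_of_pow hε hx hc hpow
        rw [show 2 * oddTorus (Fintype.card F) = Fintype.card F - 1 by omega,
          Nat.cast_sub Fintype.card_pos, FiniteField.cast_card_eq_zero] at h0
        simp at h0
    exact ⟨T.chi_hyp (Or.inl rfl) key, T.chi_hyp (Or.inr rfl) key⟩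
  · -- the irreducible characters of the quotient
    set C : Subgroup.zpowers c := ⟨c, Subgroup.mem_zpowers c⟩
    have hW : (c ^ r) * (c ^ r) = -1 := by
      rw [← pow_add, show r + r = h by omega, TorusGen.pow_h_eq D.torus]
    rcases T.deg_cases χ with ⟨e1, -⟩ | ⟨e1, -⟩ | ⟨⟨α, -, e1⟩, d⟩ | ⟨⟨θ, hθ, e1⟩, d⟩ |
      ⟨e1, -⟩ | ⟨e1, -⟩
    · exact Or.inl e1
    · exact Or.inr (Or.inl e1)
    · refine Or.inr (Or.inr (Or.inr (Or.inr ⟨Or.inl (by rw [e1, ps_one]), Or.inl ⟨c ^ r, hW, ?_⟩⟩)))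
      rw [e1]
      refine ps_noRoot α (noRoot_of_mem_torus D.torus D.noRoot (Subgroup.npow_mem_zpowers _ _)
        (fun e2 => ?_) (fun e2 => ?_))
      · rw [e2, one_mul] at hW; exact hne1 hW.symm
      · rw [e2, neg_one_sq'] at hW; exact hne1 hW.symm
    · refine Or.inr (Or.inr (Or.inr (Or.inr ⟨Or.inr (by rw [e1, dsFun_one]),
        Or.inr ⟨c ^ r, c ^ 4, hW, by rw [← pow_add, ← pow_add, add_comm], ⟨r, hrodd, ?_⟩, ?_⟩⟩)))
      · rw [← pow_mul, show 4 * r = 2 * h by omega, ← D.torus.order, pow_orderOf_eq_one]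
      · rw [e1]
        intro heq
        set z : ℂ := (θ C : ℂ)
        have hz0 : z ≠ 0 := (θ C).ne_zero
        have hz : z ^ h = 1 := by
          have h1 : zsign D θ = 1 := by
            have h1 := hχ
            rw [e1, dsFun_neg_one, dsFun_one] at h1
            refine mul_left_cancel₀ ?_ (h1.trans (mul_one _).symm)
            rw [sub_ne_zero]; exact_mod_cast Fintype.one_lt_card.ne'
          rw [← h1, zsign_def, show (⟨-1, D.neg_one_mem⟩ : Subgroup.zpowers c) = C ^ h from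
            Subtype.ext (by rw [Subgroup.coe_pow]; exact (TorusGen.pow_h_eq D.torus).symm),
            map_pow, Units.val_pow_eq_pow_val]
        have hw1 : ∀ j : ℕ, (c ^ r * c ^ j : SL2) ^ 4 = c ^ (4 * j) := fun j => by
          rw [← pow_add, ← pow_mul, show (r + j) * 4 = 2 * h + 4 * j by omega, pow_add,
            ← D.torus.order, pow_orderOf_eq_one, one_mul]
        have hne : (c ^ r * c ^ 4 : SL2) ≠ 1 ∧ (c ^ r * c ^ 4 : SL2) ≠ -1 := by
          have h16 : (c : SL2) ^ (4 * 4) ≠ 1 := fun e2 => by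
            have h1 : orderOf c ∣ 2 ^ 4 := orderOf_dvd_of_pow_eq_one e2
            rw [D.torus.order] at h1
            obtain ⟨i, -, hi⟩ := (Nat.dvd_prime_pow Nat.prime_two).1 h1
            obtain ⟨j, hj⟩ := hrodd
            rcases i with _ | _ | _ | i
            all_goals omega
          constructor <;> intro e2 <;> refine h16 ?_ <;> rw [← hw1, e2]
          · rw [one_pow]
          · simp only [pow_succ, pow_zero, one_mul, neg_one_sq']
        have hner : (c ^ r : SL2) ≠ 1 ∧ (c ^ r : SL2) ≠ -1 := by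
          constructor <;> intro e2 <;> rw [e2] at hW
          · rw [one_mul] at hW; exact hne1 hW.symm
          · rw [neg_one_sq'] at hW; exact hne1 hW.symm
        have v1 : dsFun D θ (c ^ r * c ^ 4) = -(z ^ (r + 4) + (z ^ (r + 4))⁻¹) := by
          have e2 : (c ^ r * c ^ 4 : SL2) = ((C ^ (r + 4) : Subgroup.zpowers c) : SL2) := by
            rw [Subgroup.coe_pow, pow_add]
          rw [e2, dsFun_torus θ _ (e2 ▸ hne.1) (e2 ▸ hne.2), map_pow, Units.val_pow_eq_pow_val]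
        have v2 : dsFun D θ (c ^ r) = -(z ^ r + (z ^ r)⁻¹) := by
          have e2 : (c ^ r : SL2) = ((C ^ r : Subgroup.zpowers c) : SL2) := by
            rw [Subgroup.coe_pow]
          rw [e2, dsFun_torus θ _ (e2 ▸ hner.1) (e2 ▸ hner.2), map_pow, Units.val_pow_eq_pow_val]
        rw [v1, v2, neg_inj, pow_add] at heq
        have hs : z ^ r * z ^ r = 1 := by rw [← pow_add, show r + r = h by omega, hz]
        rw [mul_inv, inv_eq_of_mul_eq_one_right hs] at heq
        have h4 : z ^ 4 + (z ^ 4)⁻¹ = 2 :=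
          mul_left_cancel₀ (pow_ne_zero r hz0) (by linear_combination heq)
        have h4' : z ^ 4 = 1 := by
          have h5 : (z ^ 4 - 1) ^ 2 = 0 := by
            have h6 := mul_inv_cancel₀ (pow_ne_zero 4 hz0)
            linear_combination (z ^ 4) * h4 - h6
          exact sub_eq_zero.1 (pow_eq_zero_iff two_ne_zero |>.1 h5)
        have hz2 : z ^ 2 = 1 := by
          obtain ⟨j, rfl⟩ := hrodd
          rw [show h = 4 * j + 2 by omega, pow_add, pow_mul, h4', one_pow, one_mul] at hz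
          exact hz
        refine hθ (MonoidHom.ext fun y => ?_)
        obtain ⟨i, hi⟩ := Subgroup.mem_zpowers_iff.1 y.2
        rw [show y = C ^ i from Subtype.ext (by rw [Subgroup.coe_zpow]; exact hi.symm),
          MonoidHom.pow_apply, MonoidHom.one_apply, map_zpow, ← zpow_natCast, ← _root_.zpow_mul,
          mul_comm, _root_.zpow_mul, zpow_natCast, Units.ext (by
            rw [Units.val_pow_eq_pow_val, Units.val_one]; exact hz2 :
            ((θ C ^ 2 : ℂˣ) : ℂ) = ((1 : ℂˣ) : ℂ)), _root_.one_zpow]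
    · exfalso
      have h1 := T.eta_neg χ e1
      rw [hχ, hα] at h1
      exact irr_one_ne_zero χ (by linear_combination h1 / 2)
    · rcases e1 with rfl | rfl
      · exact Or.inr (Or.inr (Or.inl rfl))
      · exact Or.inr (Or.inr (Or.inr (Or.inl rfl)))

theorem facts_five (T : Table D α₀ θ₀ η₁ η₂ χ₁ χ₂) (hq : Fintype.card F % 8 = 5)
    (hq5 : 5 < Fintype.card F) : SLFacts (-1) η₁ η₂ := by
  classical
  have h2 : (2 : F) ≠ 0 := D.torus.two_ne
  have hcard := D.card_eq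
  have hodd := (h_facts T).2 hq
  have hne1 : (-1 : SL2) ≠ 1 := neg_one_ne_one h2
  have hα : α₀ (-1) = 1 := by rw [T.alpha_neg, hodd.neg_one_pow, neg_neg]
  have hn : ∀ η, η = η₁ ∨ η = η₂ → (η : SL2 → ℂ) (-1) = (η : SL2 → ℂ) 1 := fun η hη => by
    rw [T.eta_neg η hη, hα, one_mul]
  have hn1 := hn η₁ (Or.inl rfl)
  have hn2 := hn η₂ (Or.inr rfl)
  obtain ⟨i, hi⟩ : IsSquare (-1 : F) := by rw [FiniteField.isSquare_neg_one_iff]; omega
  obtain ⟨a', ha', ha'odd⟩ : ∃ a', Fintype.card F - 1 = 4 * a' ∧ Odd a' :=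
    ⟨(Fintype.card F - 1) / 4, by omega, ⟨(Fintype.card F - 1) / 8, by omega⟩⟩
  obtain ⟨e, he⟩ := exists_nonsquare_unit D.odd
  have hm1 : (-1 : F) ≠ 1 := fun h1 => h2 (by linear_combination -h1)
  refine ⟨Or.inr ⟨rfl, hq⟩, ?_, ?_, hn1, hn2, fun x hx => ?_, ?_, fun g hg => ?_, fun g hg => ?_,
    fun g hg1 hgb => ?_, fun χ hχ => ?_⟩
  · rw [(apply_one_iff_charDegree η₁ _).2 rfl, Int.cast_neg, Int.cast_one, sub_neg_eq_add]
    exact_mod_cast T.eta_deg₁
  · rw [(apply_one_iff_charDegree η₂ _).2 rfl, Int.cast_neg, Int.cast_one, sub_neg_eq_add]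
    exact_mod_cast T.eta_deg₂
  · rw [T.eta_uni_sum hx]; simp
  · rw [(T.swapped he).1.diff_sq T he, hα]; simp
  · obtain ⟨m, hm⟩ := exists_even_pow h2 hg
    rcases element_cases h2 g with rfl | rfl | hy | hn' | ⟨ε, x, hε, -, hc⟩
    · rw [one_pow] at hm; exact absurd hm.symm hne1
    · rw [pow_mul, pow_two, neg_one_sq', one_pow] at hm; exact absurd hm.symm hne1
    · obtain ⟨u, hu, hc⟩ := exists_diag_of_hyp h2 hy
      have h1 := pow_of_isConj hc (Or.inr rfl) hm
      rw [← map_pow, ← slDiag_neg_one] at h1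
      have h1' := slDiag_inj h1
      have hsq : ¬ IsSquare (u : F) := by
        rintro ⟨v, hv⟩
        have hv0 : v ≠ 0 := fun e1 => u.ne_zero (by rw [hv, e1, mul_zero])
        have h3 : (u : F) ^ (2 * a') = 1 := by
          rw [hv, ← pow_two, ← pow_mul, show 2 * (2 * a') = Fintype.card F - 1 by omega,
            FiniteField.pow_card_sub_one_eq_one _ hv0]
        have h4 := congrArg Units.val h1'
        rw [Units.val_pow_eq_pow_val, Units.val_neg, Units.val_one] at h4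
        have h5 : (-1 : F) ^ a' = 1 := by
          rw [← h4, ← pow_mul, show 2 * m * a' = 2 * a' * m by ring, pow_mul, h3, one_pow]
        rw [ha'odd.neg_one_pow] at h5
        exact hm1 h5
      have hv : ∀ η : IrrCharacter SL2, η = η₁ ∨ η = η₂ → (η : SL2 → ℂ) g = -1 := fun η hη => by
        rw [classFunction_eq_of_isConj (irr_isClassFunction η) hc, T.eta_hyp hη hu,
          T.alpha0_of_not_isSquare hsq]
      rw [steinberg_hyp h2 hy, hv η₁ (Or.inl rfl), hv η₂ (Or.inr rfl)]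
      simp
    · exfalso
      have h1 : (-1 : SL2) ^ h = 1 := by
        rw [← hm, ← pow_mul, show 2 * m * h = 2 * h * m by ring, pow_mul, pow_two_h D hn', one_pow]
      rw [hodd.neg_one_pow] at h1
      exact hne1 h1
    · exact (uni_not_even h2 hε hc hm).elim
  · obtain ⟨k, hk, hgk⟩ := exists_odd_pow hg
    have d1 : (2 : ℂ) * (η₁ : SL2 → ℂ) 1 = (Fintype.card F : ℂ) + 1 := by
      rw [(apply_one_iff_charDegree η₁ _).2 rfl]; exact_mod_cast T.eta_deg₁
    have d2 : (2 : ℂ) * (η₂ : SL2 → ℂ) 1 = (Fintype.card F : ℂ) + 1 := by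
      rw [(apply_one_iff_charDegree η₂ _).2 rfl]; exact_mod_cast T.eta_deg₂
    rcases element_cases h2 g with rfl | rfl | hy | hn' | ⟨ε, x, hε, hx, hc⟩
    · rw [steinberg_one]; push_cast; linear_combination -(d1 + d2) / 2
    · rw [steinberg_neg_one, hn1, hn2]; push_cast; linear_combination -(d1 + d2) / 2
    · obtain ⟨u, hu, hc⟩ := exists_diag_of_hyp h2 hy
      have hsq : IsSquare (u : F) := by
        have h1 : (u : F) ^ k = 1 ∨ (u : F) ^ k = -1 := by
          refine hgk.imp (fun e1 => ?_) (fun e1 => ?_)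
          · have h1 := pow_of_isConj hc (Or.inl rfl) e1
            rw [← map_pow, ← map_one slDiag] at h1
            rw [← Units.val_pow_eq_pow_val, slDiag_inj h1, Units.val_one]
          · have h1 := pow_of_isConj hc (Or.inr rfl) e1
            rw [← map_pow, ← slDiag_neg_one] at h1
            rw [← Units.val_pow_eq_pow_val, slDiag_inj h1, Units.val_neg, Units.val_one]
        obtain ⟨j, rfl⟩ := hk
        rw [pow_succ, show 2 * j = j * 2 by ring, pow_mul] at h1
        rcases h1 with h1 | h1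
        · exact ⟨((u : F) ^ j)⁻¹, by
            rw [← mul_inv, ← pow_two]; exact eq_inv_of_mul_eq_one_right h1⟩
        · exact ⟨i * ((u : F) ^ j)⁻¹, by
            rw [mul_mul_mul_comm, ← hi, ← mul_inv, ← pow_two, eq_mul_inv_iff_mul_eq₀
              (pow_ne_zero _ (pow_ne_zero _ u.ne_zero)), mul_comm, h1]⟩
      have hv : ∀ η : IrrCharacter SL2, η = η₁ ∨ η = η₂ → (η : SL2 → ℂ) g = 1 := fun η hη => by
        rw [classFunction_eq_of_isConj (irr_isClassFunction η) hc, T.eta_hyp hη hu,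
          T.alpha0_of_isSquare u.ne_zero hsq]
      rw [steinberg_hyp h2 hy, hv η₁ (Or.inl rfl), hv η₂ (Or.inr rfl)]
      norm_num
    · rw [steinberg_ell hn', T.eta_noRoot (Or.inl rfl) hn', T.eta_noRoot (Or.inr rfl) hn']
      simp
    · rw [steinberg_unip hε hx hc, uni_value η₁ hn1 hε hc, uni_value η₂ hn2 hε hc,
        T.eta_uni_sum (mul_ne_zero ε.ne_zero hx)]
      simp
  · have hb := (oddTorus_eq (q := Fintype.card F)).2 hq
    have hpow := sq_pow_of_dvd hgb
    have key : NoRoot (g : M2) := by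
      rcases element_cases h2 g with rfl | rfl | hy | hn' | ⟨ε, x, hε, hx, hc⟩
      · exact absurd (map_one _) hg1
      · exact absurd (prj_eq_one.2 (Or.inr rfl)) hg1
      · exfalso
        obtain ⟨u, hu, hc⟩ := exists_diag_of_hyp h2 hy
        have h1 := pow_of_isConj hc (Or.inl rfl) hpow
        rw [← map_pow, ← map_one slDiag] at h1
        have h1' := slDiag_inj h1
        rw [show 2 * oddTorus (Fintype.card F) = Fintype.card F - 1 + 2 by omega, pow_add,
          unit_pow_card_sub_one, one_mul] at h1'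
        exact hu (by rw [← Units.val_pow_eq_pow_val, h1', Units.val_one])
      · exact hn'
      · have h0 := uni_of_pow hε hx hc hpow
        rw [show 2 * oddTorus (Fintype.card F) = Fintype.card F + 1 by omega, Nat.cast_add,
          FiniteField.cast_card_eq_zero] at h0
        simp at h0
    exact ⟨T.eta_noRoot (Or.inl rfl) key, T.eta_noRoot (Or.inr rfl) key⟩
  · have hi0 : i ≠ 0 := fun e1 => by rw [e1, mul_zero] at hi; exact neg_ne_zero.2 one_ne_zero hi
    set iu := Units.mk0 i hi0 with hiu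
    have hiu2 : iu * iu = -1 := Units.ext (by simp [hiu, ← hi])
    have hW : (slDiag iu : SL2) * slDiag iu = -1 := by rw [← map_mul, hiu2, slDiag_neg_one]
    have hisq : (iu : F) ^ 2 ≠ 1 := by
      rw [pow_two, hiu, Units.val_mk0, ← hi]; exact hm1
    rcases T.deg_cases χ with ⟨e1, -⟩ | ⟨e1, -⟩ | ⟨⟨α, hα2, e1⟩, d⟩ | ⟨⟨θ, -, e1⟩, d⟩ |
      ⟨e1, -⟩ | ⟨e1, -⟩
    · exact Or.inl e1
    · exact Or.inr (Or.inl e1)
    · have hα1 : α (-1) = 1 := by
        have h1 := hχ
        rw [e1, ps_neg_one, ps_one] at h1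
        refine mul_right_cancel₀ ?_ (h1.trans (one_mul _).symm)
        norm_cast
      obtain ⟨u, hu⟩ : ∃ u : Fˣ, α (u : F) ^ 2 ≠ 1 := by
        by_contra! hall
        exact hα2 (MulChar.ext fun u => by
          rw [MulChar.pow_apply' _ two_ne_zero, hall, MulChar.one_apply_coe])
      set x := u ^ 4 with hxdef
      have hxa : x ^ a' = 1 := by rw [hxdef, ← pow_mul, ← ha', unit_pow_card_sub_one]
      refine Or.inr (Or.inr (Or.inr (Or.inr ⟨Or.inl (by rw [e1, ps_one]),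
        Or.inr ⟨slDiag iu, slDiag x, hW, by rw [← map_mul, ← map_mul, mul_comm],
          ⟨a', ha'odd, by rw [← map_pow, hxa, map_one]⟩, ?_⟩⟩)))
      rw [e1]
      intro heq
      have hix : ((iu * x : Fˣ) : F) ^ 2 ≠ 1 := fun e2 => by
        have h3 : ((iu * x) ^ 2 : Fˣ) = 1 := Units.ext (by
          rw [Units.val_pow_eq_pow_val, Units.val_one]; exact e2)
        rw [mul_pow, pow_two iu, hiu2] at h3
        have h4 := congrArg (· ^ a') h3
        simp only [mul_pow, ← pow_mul, one_pow, ha'odd.neg_one_pow] at h4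
        rw [mul_comm 2, pow_mul, hxa, one_pow, mul_one] at h4
        exact hm1 (by simpa using congrArg Units.val h4)
      have val : ∀ y : Fˣ, (y : F) ^ 2 ≠ 1 → ps α (slDiag y : SL2) = α (y : F) + α (y : F)⁻¹ :=
        fun y hy => by rw [slDiag_eq_bEl, ps_bEl_hyp α 0 hy]
      rw [← map_mul, val _ hix, val _ hisq, Units.val_mul, mul_inv, map_mul, map_mul] at heq
      set p := α (iu : F)
      set z := α (x : F) with hz
      have hp2 : p * p = 1 := by rw [← map_mul, hiu, Units.val_mk0, ← hi, hα1]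
      have hp : α ((iu : F)⁻¹) = p := by
        have h3 : α ((iu : F)⁻¹) * p = 1 := by rw [← map_mul, inv_mul_cancel₀ iu.ne_zero, map_one]
        linear_combination p * h3 - α ((iu : F)⁻¹) * hp2
      have hzi : z * α ((x : F)⁻¹) = 1 := by rw [← map_mul, mul_inv_cancel₀ x.ne_zero, map_one]
      rw [hp] at heq
      have h4 : z + α ((x : F)⁻¹) = 2 := by linear_combination p * heq - (z + α ((x : F)⁻¹) - 2) * hp2
      have h5 : z = 1 := by
        have h6 : (z - 1) ^ 2 = 0 := by linear_combination z * h4 - hzi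
        exact sub_eq_zero.1 (pow_eq_zero_iff two_ne_zero |>.1 h6)
      apply hu
      have h6 : α (u : F) ^ 4 = 1 := by
        rw [← h5, hz, hxdef, Units.val_pow_eq_pow_val, map_pow]
      have h7 : ((u : F) ^ (2 * a')) = 1 ∨ ((u : F) ^ (2 * a')) = -1 := by
        refine sq_eq_one_iff.1 ?_
        rw [← pow_mul, show 2 * a' * 2 = Fintype.card F - 1 by omega,
          FiniteField.pow_card_sub_one_eq_one _ u.ne_zero]
      have h8 : α (u : F) ^ (2 * a') = 1 := by
        rw [← map_pow]; rcases h7 with h7 | h7 <;> rw [h7]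
        · exact map_one α
        · exact hα1
      obtain ⟨j, rfl⟩ := ha'odd
      rw [show 2 * (2 * j + 1) = 4 * j + 2 by ring, pow_add, pow_mul, h6, one_pow, one_mul] at h8
      exact h8
    · refine Or.inr (Or.inr (Or.inr (Or.inr ⟨Or.inr (by rw [e1, dsFun_one]), Or.inl ⟨slDiag iu, hW, ?_⟩⟩)))
      rw [e1]
      refine ds_hyp D (dsFun_spec D θ) ?_
      rw [slDiag_eq_bEl]
      exact bEl_hyp 0 hisq
    · rcases e1 with rfl | rfl
      · exact Or.inr (Or.inr (Or.inl rfl))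
      · exact Or.inr (Or.inr (Or.inr (Or.inl rfl)))
    · exfalso
      have h1 : (χ : SL2 → ℂ) (-1) = (-1 : ℂ) ^ h * (χ : SL2 → ℂ) 1 := by
        rcases e1 with rfl | rfl
        exacts [(chi_neg T).1, (chi_neg T).2]
      rw [hχ, hodd.neg_one_pow] at h1
      exact irr_one_ne_zero χ (by linear_combination h1 / 2)

end CfsgLib.ReeOrder.Block
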