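import Cfsg.Agent.Lib.ReeOrder.Block.PslChars
import Cfsg.Agent.Lib.ReeOrder.Setup
import Cfsg.Agent.Lib.JankoThompson.Section
import Cfsg.Agent.Lib.Blocks.BlockParts
import Cfsg.Agent.Lib.Blocks.PrincipalSq

/-!
The principal 2-block of the centralizer `2 × PSL₂(q)`.
-/

set_option autoImplicit false
set_option linter.unusedSectionVars false
set_option linter.style.haveILetI false

namespace CfsgLib.ReeOrder.Block

open Cfsg CfsgLib.ReeType CfsgLib.Characters CfsgLib.Blocks
open scoped ComplexConjugate Classical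

universe u

variable {G : Type u} [Group G] [Fintype G]
variable {F : Type} [Field F] [Fintype F] [DecidableEq F]
variable {t : G} (K : Conf t F)

local notation "PSL2" => Matrix.ProjectiveSpecialLinearGroup (Fin 2) F

/-- The element `t` of its centralizer. -/
abbrev tC (_K : Conf t F) : Subgroup.centralizer ({t} : Set G) :=
  ⟨t, Subgroup.mem_centralizer_singleton_iff.2 rfl⟩

/-- The complement of `⟨t⟩` in its centralizer. -/
noncomputable def upC (K : Conf t F) :
    Matrix.ProjectiveSpecialLinearGroup (Fin 2) F →* Subgroup.centralizer ({t} : Set G) :=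
  K.cent.e.symm.toMonoidHom.comp (MonoidHom.inr _ _)

include K

theorem coe_upC (k : PSL2) : ((upC K k : Subgroup.centralizer ({t} : Set G)) : G) = K.cent.up k :=
  rfl

theorem e_upC (k : PSL2) : K.cent.e (upC K k) = (1, k) := K.cent.e.apply_symm_apply _

theorem kappa_upC (k : PSL2) : K.cent.kappa (upC K k) = k := by
  show (K.cent.e (upC K k)).2 = k
  rw [(e_upC K)]

theorem upC_inj : Function.Injective (upC K) := fun a b h => by
  rw [← kappa_upC K a, h, (kappa_upC K)]

theorem kappa_surjective : Function.Surjective K.cent.kappa := fun k => ⟨_, kappa_upC K k⟩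

theorem e_tC_mul (k : PSL2) : K.cent.e (tC K * upC K k) = (Multiplicative.ofAdd 1, k) := by
  rw [map_mul, (e_upC K), K.cent.he, Prod.mk_mul_mk, mul_one, one_mul]

theorem cases_C (x : Subgroup.centralizer ({t} : Set G)) :
    x = upC K (K.cent.kappa x) ∨ x = tC K * upC K (K.cent.kappa x) :=
  (K.cent.elt_cases x).imp (fun h => Subtype.ext h) fun h => Subtype.ext h

theorem odd_eq_upC {x : Subgroup.centralizer ({t} : Set G)} (hx : Odd (orderOf x)) :
    x = upC K (K.cent.kappa x) := by
  refine (cases_C K x).resolve_right fun h => ?_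
  have h2 := orderOf_map_dvd ((MonoidHom.fst _ _).comp K.cent.e.toMonoidHom) x
  rw [show ((MonoidHom.fst _ _).comp K.cent.e.toMonoidHom) x = (K.cent.e x).1 from rfl,
    h, (e_tC_mul K), CfsgLib.JankoThompson.orderOf_gen] at h2
  exact Nat.not_even_iff_odd.2 hx (even_iff_two_dvd.2 (h ▸ h2))

theorem orderOf_upC (k : PSL2) : orderOf (upC K k) = orderOf k :=
  orderOf_injective (upC K) (upC_inj K) k

theorem cent_eq_comap (g : Subgroup.centralizer ({t} : Set G)) :
    Subgroup.centralizer ({g} : Set (Subgroup.centralizer ({t} : Set G))) =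
      (Subgroup.centralizer ({K.cent.kappa g} : Set PSL2)).comap K.cent.kappa := by
  ext x
  simp only [Subgroup.mem_comap, Subgroup.mem_centralizer_singleton_iff]
  exact ⟨fun h => by rw [← map_mul, h, map_mul],
    fun h => Subtype.ext (K.cent.commute_of_kappa h).eq⟩

theorem index_cent (g : Subgroup.centralizer ({t} : Set G)) :
    (Subgroup.centralizer ({g} : Set (Subgroup.centralizer ({t} : Set G)))).index =
      (Subgroup.centralizer ({K.cent.kappa g} : Set PSL2)).index := by
  rw [(cent_eq_comap K), Subgroup.index_comap_of_surjective _ (kappa_surjective K)]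

theorem q_mod' : Fintype.card F % 8 = 3 ∨ Fintype.card F % 8 = 5 := K.q_mod

theorem q_five : 5 < Fintype.card F := by
  have := K.q_ge
  omega

theorem card_L : Nat.card PSL2 =
    4 * (Fintype.card F) * coTorus (Fintype.card F) * oddTorus (Fintype.card F) :=
  Psl.card_psl_eq K.q_mod K.q_ge

theorem odd_part : Odd (Fintype.card F * coTorus (Fintype.card F) * oddTorus (Fintype.card F)) :=
  ((Psl.q_odd K.q_mod K.q_ge).mul K.odd_a).mul K.odd_b

/-- Classes of odd size consist of 2-elements. -/
theorem sq_eq_one_of_odd_index {g : Subgroup.centralizer ({t} : Set G)}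
    (ho : Odd (Subgroup.centralizer ({g} : Set (Subgroup.centralizer ({t} : Set G)))).index) :
    g * g = 1 := by
  haveI := Fact.mk Nat.prime_two
  rw [(index_cent K)] at ho
  set k := K.cent.kappa g
  set D := Subgroup.centralizer ({k} : Set PSL2)
  have hmul := D.card_mul_index
  have h4 : 2 ^ 2 ∣ Nat.card D := by
    refine Nat.Coprime.dvd_of_dvd_mul_right (Nat.Coprime.pow_left _ (Nat.coprime_two_left.2 ho)) ?_
    rw [hmul, card_L K]
    exact ⟨Fintype.card F * coTorus (Fintype.card F) * oddTorus (Fintype.card F), by ring⟩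
  obtain ⟨V, hV⟩ := Sylow.exists_subgroup_card_pow_prime 2 h4
  have hord : ∀ v ∈ V, v ≠ 1 → orderOf (v : PSL2) = 2 := by
    intro v hv hv1
    have h1 : orderOf (v : PSL2) ∣ 2 ^ 2 := by
      rw [← hV, Subgroup.orderOf_coe, ← Subgroup.orderOf_mk v hv]
      exact orderOf_dvd_natCard _
    obtain ⟨i, hi, he⟩ := (Nat.dvd_prime_pow Nat.prime_two).1 h1
    have h2 := orderOf_ne_four K.two_ne (sq_of_two K.q_mod) (v : PSL2)
    rcases i with _ | _ | _ | i
    · exact absurd (Subtype.ext (orderOf_eq_one_iff.1 he)) hv1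
    · exact he
    · exact absurd he h2
    · omega
  obtain ⟨w, hwV, hw1⟩ := V.bot_or_exists_ne_one.resolve_left fun e => by
    rw [e, Subgroup.card_bot] at hV; norm_num at hV
  have hle : Subgroup.zpowers w < V := lt_of_le_of_ne (Subgroup.zpowers_le.2 hwV) fun e => by
    rw [← e, Nat.card_zpowers, ← Subgroup.orderOf_coe, hord w hwV hw1] at hV; norm_num at hV
  obtain ⟨w', hwV', hnw⟩ := SetLike.exists_of_lt hle
  have hw1' : w' ≠ 1 := fun e => hnw (e ▸ one_mem _)
  have hne : (w : PSL2) ≠ w' := fun e => hnw (by rw [← Subtype.ext e]; exact Subgroup.mem_zpowers w)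
  have hww' : Commute (w : PSL2) w' := by
    have hs : ∀ v ∈ V, (v : PSL2) * v = 1 := fun v hv => by
      by_cases h : v = 1
      · simp [h]
      · exact Psl.involution_mul_self (hord v hv h)
    have h := hs _ (mul_mem hwV hwV')
    rw [Subgroup.coe_mul] at h
    rw [Commute, SemiconjBy, eq_inv_of_mul_eq_one_left h, _root_.mul_inv_rev,
      inv_eq_of_mul_eq_one_right (hs w hwV), inv_eq_of_mul_eq_one_right (hs w' hwV')]
  have hk2 : k * k = 1 := by
    rcases Psl.four_centralizer K.q_mod K.q_ge (hord w hwV hw1) (hord w' hwV' hw1') hww' hne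
      (Subgroup.mem_centralizer_singleton_iff.1 w.2).symm
      (Subgroup.mem_centralizer_singleton_iff.1 w'.2).symm with e | e | e | e <;> rw [e]
    · exact one_mul 1
    · exact Psl.involution_mul_self (hord w hwV hw1)
    · exact Psl.involution_mul_self (hord w' hwV' hw1')
    · rw [hww'.symm.mul_mul_mul_comm, Psl.involution_mul_self (hord w hwV hw1),
        Psl.involution_mul_self (hord w' hwV' hw1'), one_mul]
  have htt : tC K * tC K = 1 := Subtype.ext K.t_mul_self
  have hc : Commute (tC K) (upC K k) := Subtype.ext (K.mul_t_comm k).eq.symm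
  rcases cases_C K g with e | e <;> rw [e]
  · rw [← map_mul, hk2, map_one]
  · rw [hc.symm.mul_mul_mul_comm, htt, ← map_mul, hk2, map_one, one_mul]

/-- The class of an involution of the complement has odd size. -/
theorem index_inv_odd {w : PSL2} (hw : orderOf w = 2) :
    Odd (Subgroup.centralizer ({w} : Set PSL2)).index := by
  have hc := CfsgLib.PSL2.card_centralizer_involution (Psl.q_odd K.q_mod K.q_ge) hw
  have h4 : Nat.card (Subgroup.centralizer ({w} : Set PSL2)) = 4 * coTorus (Fintype.card F) := by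
    rcases sq_cases (q_mod' K) with ⟨e, -, -, e2⟩ | ⟨e, -, -, e2⟩ <;> rw [hc] <;> split_ifs <;> omega
  have hmul := (Subgroup.centralizer ({w} : Set PSL2)).card_mul_index
  rw [h4, card_L K, show 4 * Fintype.card F * coTorus (Fintype.card F) * oddTorus (Fintype.card F) =
    4 * coTorus (Fintype.card F) * (Fintype.card F * oddTorus (Fintype.card F)) by ring] at hmul
  rw [Nat.eq_of_mul_eq_mul_left (by have := three_le_coTorus (q_mod' K) (by have := K.q_ge; exact this); omega) hmul]
  exact (Psl.q_odd K.q_mod K.q_ge).mul K.odd_b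

variable {M : Ideal AlgInt}

/-- Irreducible characters of odd degree are in the principal block. -/
theorem mem_principal_of_odd (hM : IsPModular 2 M)
    {ψ : IrrCharacter (Subgroup.centralizer ({t} : Set G))}
    (hd : Odd (charDegree (ψ : Subgroup.centralizer ({t} : Set G) → ℂ))) :
    ψ ∈ principalBlock M (Subgroup.centralizer ({t} : Set G)) := by
  intro g
  rw [CfsgLib.PrincipalSq.centralChar_principal, centralChar, mul_div_assoc]
  set j := (Subgroup.centralizer ({g} : Set (Subgroup.centralizer ({t} : Set G)))).index with hj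
  have hdeg := CfsgLib.LinearTwist.apply_one_eq_charDegree (irr_isCharacter ψ)
  have hinv : MemLocalRing M ((ψ : Subgroup.centralizer ({t} : Set G) → ℂ) 1)⁻¹ := by
    rw [hdeg, ← mem_lRing (hM := hM)]
    exact inv_natCast_mem_lRing hM fun h => Nat.not_even_iff_odd.2 hd (even_iff_two_dvd.2 h)
  have hjR : MemLocalRing M (j : ℂ) := by
    rw [← mem_lRing (hM := hM)]; exact natCast_mem _ _
  rcases Nat.even_or_odd j with he | ho
  · have h1 : MemLocalIdeal M (j : ℂ) := (memLocalIdeal_natCast_iff hM j).2 he.two_dvd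
    refine MemLocalIdeal.sub hM h1 (MemLocalIdeal.mul_right hM h1 ?_)
    rw [div_eq_mul_inv, ← mem_lRing (hM := hM)]
    exact Subring.mul_mem _ (CfsgLib.PrincipalSq.char_mem_lRing hM (irr_isCharacter ψ) g)
      ((mem_lRing (hM := hM)).2 hinv)
  · have h2 := sq_eq_one_of_odd_index K (g := g) ho
    rw [show (j : ℂ) - j * ((ψ : Subgroup.centralizer ({t} : Set G) → ℂ) g /
      (ψ : Subgroup.centralizer ({t} : Set G) → ℂ) 1) =
      (j : ℂ) * ((((ψ : Subgroup.centralizer ({t} : Set G) → ℂ) 1 -
        (ψ : Subgroup.centralizer ({t} : Set G) → ℂ) g)) *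
          ((ψ : Subgroup.centralizer ({t} : Set G) → ℂ) 1)⁻¹) by
      field_simp [irr_one_ne_zero ψ]]
    refine MemLocalIdeal.mul_left hM hjR (MemLocalIdeal.mul_right hM ?_ hinv)
    exact CfsgLib.PrincipalSq.char_congr_of_pow_eq hM (irr_isCharacter ψ) (k := 1)
      (by rw [pow_one, one_pow, pow_two, h2])

/-- An irreducible character of the centralizer restricts irreducibly to the complement. -/
theorem exists_restrict (ψ : IrrCharacter (Subgroup.centralizer ({t} : Set G))) :
    ∃ χ : IrrCharacter PSL2, ∀ k,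
      (χ : PSL2 → ℂ) k = (ψ : Subgroup.centralizer ({t} : Set G) → ℂ) (upC K k) := by
  have hz : tC K ∈ Subgroup.center (Subgroup.centralizer ({t} : Set G)) :=
    Subgroup.mem_center_iff.2 fun x => Subtype.ext (Subgroup.mem_centralizer_singleton_iff.1 x.2)
  obtain ⟨s, hs, es⟩ := CfsgLib.Involutions.irr_central_involution_sign ψ hz (Subtype.ext K.t_mul_self)
  set f : PSL2 → ℂ := fun k => (ψ : Subgroup.centralizer ({t} : Set G) → ℂ) (upC K k) with hf
  have hfc : IsCharacter PSL2 f := CfsgLib.CharGalois.isCharacter_comp (irr_isCharacter ψ) (upC K)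
  refine ⟨⟨f, isIrrCharacter_of_generalized_norm_one (isGeneralizedCharacter_of_isCharacter hfc)
    ?_ ?_⟩, fun k => rfl⟩
  · have h1 := classInner_irr_self ψ.2
    rw [classInner] at h1 ⊢
    have hcard : Nat.card (Subgroup.centralizer ({t} : Set G)) = 2 * Nat.card PSL2 := by
      rw [Nat.card_congr K.cent.e.toEquiv, Nat.card_prod]
      congr 1
      exact Nat.card_zmod 2
    rw [hcard, ← K.cent.e.symm.toEquiv.sum_comp
      (fun x => (ψ : Subgroup.centralizer ({t} : Set G) → ℂ) x *
        conj ((ψ : Subgroup.centralizer ({t} : Set G) → ℂ) x)), Fintype.sum_prod_type,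
      show (Finset.univ : Finset (Multiplicative (ZMod 2))) = {1, Multiplicative.ofAdd 1} by decide,
      Finset.sum_pair (by decide)] at h1
    have e1 : ∀ k, K.cent.e.symm.toEquiv (1, k) = upC K k := fun k => rfl
    have e2 : ∀ k, K.cent.e.symm.toEquiv (Multiplicative.ofAdd 1, k) = tC K * upC K k := fun k => by
      rw [← e_tC_mul K k]; exact K.cent.e.symm_apply_apply _
    simp only [e1, e2, es] at h1
    rw [← h1]
    push_cast
    have hss : (s : ℂ) * s = 1 := by rcases hs with rfl | rfl <;> simp
    have hN : (Nat.card PSL2 : ℂ) ≠ 0 := Nat.cast_ne_zero.2 Nat.card_pos.ne'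
    rw [Finset.sum_congr rfl (g := fun k => f k * conj (f k)) (s₂ := Finset.univ)
      (f := fun k => (s : ℂ) * f k * conj ((s : ℂ) * f k)) fun k _ => by
        rw [map_mul, map_intCast]; linear_combination (f k * conj (f k)) * hss]
    field_simp
    ring
  · obtain ⟨n, -, hn⟩ := irr_exists_degree ψ.2
    simp [hf, hn]

/-- The principal block only meets the four characters. -/
theorem principal_list (D : HalfData F) (hM : IsPModular 2 M)
    {ψ : IrrCharacter (Subgroup.centralizer ({t} : Set G))}
    (hψ : ψ ∈ principalBlock M (Subgroup.centralizer ({t} : Set G))) {χ : IrrCharacter PSL2}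
    (hχ : ∀ k, (χ : PSL2 → ℂ) k = (ψ : Subgroup.centralizer ({t} : Set G) → ℂ) (upC K k)) :
    (χ : PSL2 → ℂ) = (fun _ => 1) ∨ χ = D.St ∨ χ = D.eta ∨ χ = D.eta' := by
  rcases D.list χ with h | h | h | h | h
  · exact Or.inl h
  · exact Or.inr (Or.inl h)
  · exact Or.inr (Or.inr (Or.inl h))
  · exact Or.inr (Or.inr (Or.inr h))
  exfalso
  rcases h with ⟨w, hw, h0⟩ | ⟨w, x, hw, hx, hwx, hnorm, hne⟩
  · have h1 := hψ (upC K w)
    rw [CfsgLib.PrincipalSq.centralChar_principal, centralChar, ← hχ, h0, mul_zero, zero_div,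
      sub_zero, memLocalIdeal_natCast_iff hM, (index_cent K), (kappa_upC K)] at h1
    exact Nat.not_even_iff_odd.2 (index_inv_odd K hw) (even_iff_two_dvd.2 h1)
  · set u := upC K w with hu
    have hv : upC K x ∈ Subgroup.centralizer ({u} : Set (Subgroup.centralizer ({t} : Set G))) :=
      Subgroup.mem_centralizer_singleton_iff.2 (by rw [hu, ← map_mul, ← map_mul, hwx.eq])
    set v : Subgroup.centralizer ({u} : Set (Subgroup.centralizer ({t} : Set G))) := ⟨upC K x, hv⟩
    have hvo : Odd (orderOf v) := by rw [Subgroup.orderOf_mk, (orderOf_upC K)]; exact hx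
    haveI : (Subgroup.zpowers v).Normal := by
      refine ⟨fun z hz y => ?_⟩
      have hy : Commute (K.cent.kappa (y : Subgroup.centralizer ({t} : Set G))) w := by
        have h1 := congrArg K.cent.kappa (Subgroup.mem_centralizer_singleton_iff.1 y.2)
        rw [map_mul, map_mul, show K.cent.kappa u = w from kappa_upC K w] at h1
        exact h1
      obtain ⟨i, rfl⟩ := Subgroup.mem_zpowers_iff.1 hz
      obtain ⟨j, hj⟩ := Subgroup.mem_zpowers_iff.1 (hnorm _ hy)
      refine (conj_zpow (a := y) (b := v) (i := i)) ▸ Subgroup.zpow_mem _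
        (Subgroup.mem_zpowers_iff.2 ⟨j, Subtype.ext ?_⟩) i
      rw [Subgroup.coe_mul, Subgroup.coe_mul, Subgroup.coe_inv, Subgroup.coe_zpow]
      set y' : Subgroup.centralizer ({t} : Set G) := (y : Subgroup.centralizer ({t} : Set G))
      have ho : Odd (orderOf (y' * upC K x * y'⁻¹)) := by
        rw [← MulAut.conj_apply, MulEquiv.orderOf_eq, (orderOf_upC K)]; exact hx
      rw [odd_eq_upC K ho, show K.cent.kappa (y' * upC K x * y'⁻¹) = x ^ j by
        rw [map_mul, map_mul, map_inv, kappa_upC K, hj], map_zpow]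
    have hN : ¬ 2 ∣ Nat.card (Subgroup.zpowers v) := by
      rw [Nat.card_zpowers]
      exact fun h => Nat.not_even_iff_odd.2 hvo (even_iff_two_dvd.2 h)
    have hu2 : ∃ k : ℕ, orderOf u = 2 ^ k := ⟨1, by rw [hu, (orderOf_upC K), hw, pow_one]⟩
    have h1 := principal_apply_mul hM hu2 hN (Subgroup.mem_zpowers v) hψ
    refine hne ?_
    rw [hχ, hχ, map_mul]
    exact h1

end CfsgLib.ReeOrder.Block
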