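import Cfsg.Agent.Lib.ReeType.Proj
import Cfsg.Agent.Lib.PSL2.Involution

/-!
Elements commuting with an involution of `PSL₂(q)`, in matrix form.
-/

set_option autoImplicit false
set_option linter.unusedSectionVars false

namespace CfsgLib.ReeOrder.Block

open Matrix CfsgLib.ReeType CfsgLib.SL2Char

variable {F : Type} [Field F]

local notation "SL2" => Matrix.SpecialLinearGroup (Fin 2) F
local notation "M2" => Matrix (Fin 2) (Fin 2) F

theorem sym_prod {X W : M2} (hX : X.trace = 0) (hW : W.trace = 0) :
    X * W + W * X = (X * W).trace • (1 : M2) := by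
  rw [Matrix.trace_fin_two] at hX hW
  have e1 : X 1 1 = -X 0 0 := by linear_combination hX
  have e2 : W 1 1 = -W 0 0 := by linear_combination hW
  ext i j
  fin_cases i <;> fin_cases j <;>
    simp [Matrix.mul_apply, Matrix.trace_fin_two, e1, e2] <;> ring

theorem sl_trace_inv (x : SL2) : ((x⁻¹ : SL2) : M2) = (x : M2).trace • (1 : M2) - (x : M2) := by
  rw [Matrix.SpecialLinearGroup.coe_inv, Matrix.adjugate_fin_two]
  ext i j
  fin_cases i <;> fin_cases j <;> simp [Matrix.trace_fin_two]

/-- An element commuting with a square root of `-1` is a linear function of it. -/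
theorem eq_lin (h2 : (2 : F) ≠ 0) {W : M2} (hW : W.trace = 0) (hWW : W * W = -1) {x : SL2}
    (hc : (x : M2) * W = W * x) :
    ∃ β : F, (x : M2) = ((x : M2).trace / 2) • (1 : M2) + β • W := by
  set a := (x : M2).trace / 2
  set X := (x : M2) - a • (1 : M2) with hX
  have hXt : X.trace = 0 := by
    rw [hX, Matrix.trace_sub, Matrix.trace_smul, Matrix.trace_one, Fintype.card_fin]
    simp only [smul_eq_mul, Nat.cast_ofNat, a]
    field_simp
    ring
  have hXW : X * W = W * X := by
    rw [hX, sub_mul, mul_sub, hc, smul_mul_assoc, one_mul, mul_smul_comm, mul_one]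
  have key := sym_prod hXt hW
  rw [← hXW] at key
  have key2 := congrArg (· * W) key
  simp only [add_mul, mul_assoc, hWW, mul_neg, mul_one, smul_mul_assoc, one_mul] at key2
  refine ⟨-((X * W).trace / 2), ?_⟩
  have e : (x : M2) = a • (1 : M2) + X := by rw [hX]; abel
  rw [e]
  congr 1
  ext i j
  have k := congrFun (congrFun key2 i) j
  simp only [Matrix.add_apply, Matrix.neg_apply, Matrix.smul_apply, smul_eq_mul] at k
  simp only [Matrix.smul_apply, smul_eq_mul]
  field_simp
  linear_combination -k

theorem coe_anti {A B : SL2} (h : A * B = -1 * (B * A)) :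
    (A : M2) * B = -((B : M2) * A) := by
  have e := congrArg (fun z : SL2 => (z : M2)) h
  change ((A * B : SL2) : M2) = ((-1 * (B * A) : SL2) : M2) at e
  rw [Matrix.SpecialLinearGroup.coe_mul, Matrix.SpecialLinearGroup.coe_mul, neg_one_coe,
    Matrix.SpecialLinearGroup.coe_mul, neg_mul, one_mul] at e
  exact e

/-- An element sending `w` to `± w` sends what commutes with `w` to itself or its inverse. -/
theorem conj_pm (h2 : (2 : F) ≠ 0) {w x y : SL2} (hw : (w : M2).trace = 0)
    (hww : (w : M2) * w = -1) (hc : w * x = x * w) (hy : y * w = w * y ∨ y * w = -1 * (w * y)) :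
    y * x * y⁻¹ = x ∨ y * x * y⁻¹ = x⁻¹ := by
  obtain ⟨β, hβ⟩ := eq_lin h2 hw hww (x := x)
    (by rw [← Matrix.SpecialLinearGroup.coe_mul, ← hc, Matrix.SpecialLinearGroup.coe_mul])
  set a := (x : M2).trace / 2
  rcases hy with hy | hy
  · left
    have e := congrArg (fun z : SL2 => (z : M2)) hy
    simp only [Matrix.SpecialLinearGroup.coe_mul] at e
    rw [mul_inv_eq_iff_eq_mul]
    refine Subtype.ext ?_
    rw [Matrix.SpecialLinearGroup.coe_mul, Matrix.SpecialLinearGroup.coe_mul, hβ, mul_add, add_mul,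
      mul_smul_comm, mul_smul_comm, smul_mul_assoc, smul_mul_assoc, e, mul_one, one_mul]
  · right
    have e := coe_anti hy
    rw [mul_inv_eq_iff_eq_mul]
    refine Subtype.ext ?_
    have hinv : ((x⁻¹ : SL2) : M2) = a • (1 : M2) - β • (w : M2) := by
      rw [sl_trace_inv]
      conv_lhs => arg 2; rw [hβ]
      rw [show ((x : M2).trace) = a + a by simp only [a]; field_simp; ring, add_smul]
      abel
    rw [Matrix.SpecialLinearGroup.coe_mul, Matrix.SpecialLinearGroup.coe_mul, hinv, hβ, mul_add,
      sub_mul, mul_smul_comm, mul_smul_comm, smul_mul_assoc, smul_mul_assoc, e, mul_one, one_mul,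
      smul_neg, sub_eq_add_neg]

theorem prj_eq_iff [Fintype F] [DecidableEq F] {a b : SL2} :
    prj a = prj b ↔ a = b ∨ a = -1 * b := by
  have h : prj a = prj b ↔ a * b⁻¹ = 1 ∨ a * b⁻¹ = -1 := by
    rw [← prj_eq_one, map_mul, map_inv, mul_inv_eq_one]
  rw [h, mul_inv_eq_one, mul_inv_eq_iff_eq_mul]

theorem commute_prj [Fintype F] [DecidableEq F] {a b : SL2} (h : Commute (prj a) (prj b)) :
    a * b = b * a ∨ a * b = -1 * (b * a) :=
  prj_eq_iff.1 (by rw [map_mul, map_mul]; exact h.eq)

/-- A lift of an involution. -/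
theorem exists_lift_inv [Fintype F] [DecidableEq F] (h2 : (2 : F) ≠ 0)
    {w : Matrix.ProjectiveSpecialLinearGroup (Fin 2) F} (hw : orderOf w = 2) :
    ∃ W : SL2, prj W = w ∧ (W : M2) * W = -1 ∧ (W : M2).trace = 0 ∧ ∀ s : F, (W : M2) ≠ s • 1 := by
  obtain ⟨W, rfl⟩ := prj_surjective w
  exact ⟨W, rfl, CfsgLib.PSL2.lift_orderOf_two h2 hw⟩

theorem smul_eq_zero_of [Fintype F] [DecidableEq F] {W : M2} (hWW : W * W = -1) {r : F}
    (h : r • W = 0) : r = 0 := by
  by_contra hr
  rw [smul_eq_zero] at h
  rw [h.resolve_left hr, zero_mul] at hWW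
  simpa using congrFun (congrFun hWW 0) 0

variable [Fintype F] [DecidableEq F]

local notation "PSL2" => Matrix.ProjectiveSpecialLinearGroup (Fin 2) F

/-- What commutes with a product inside the centralizer of an involution. -/
theorem conj_mem_zpowers (h2 : (2 : F) ≠ 0) {w x : SL2} (hw : (w : M2).trace = 0)
    (hww : (w : M2) * w = -1) (hc : w * x = x * w) {y : PSL2} (hy : Commute y (prj w)) :
    y * prj x * y⁻¹ ∈ Subgroup.zpowers (prj x) := by
  obtain ⟨Y, rfl⟩ := prj_surjective y
  rcases conj_pm h2 hw hww hc (commute_prj hy) with h | h <;>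
    rw [← map_inv, ← map_mul, ← map_mul, h]
  · exact Subgroup.mem_zpowers _
  · rw [map_inv]; exact Subgroup.inv_mem _ (Subgroup.mem_zpowers _)

/-- Two commuting involutions generate their own centralizer. -/
theorem klein_centralizer (h2 : (2 : F) ≠ 0) {w w' k : PSL2} (hw : orderOf w = 2)
    (hw' : orderOf w' = 2) (hne : w ≠ w') (hc : Commute w w') (hk : Commute k w)
    (hk' : Commute k w') : k = 1 ∨ k = w ∨ k = w' ∨ k = w * w' := by
  obtain ⟨W, rfl, hWW, hW, hWs⟩ := exists_lift_inv h2 hw
  obtain ⟨W', rfl, hWW', hW', hWs'⟩ := exists_lift_inv h2 hw'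
  obtain ⟨Y, rfl⟩ := prj_surjective k
  -- the lifts anticommute
  have anti : (W : M2) * W' = -((W' : M2) * W) := by
    rcases commute_prj hc with h | h
    · exfalso
      obtain ⟨β, hβ⟩ := eq_lin h2 hW hWW (x := W')
        (by rw [← Matrix.SpecialLinearGroup.coe_mul, ← h, Matrix.SpecialLinearGroup.coe_mul])
      rw [hW', zero_div, zero_smul, zero_add] at hβ
      have hsq := hWW'
      rw [hβ, smul_mul_assoc, mul_smul_comm, hWW, smul_neg, smul_neg, neg_inj, smul_smul] at hsq
      have hb : β * β = 1 := by simpa using congrFun (congrFun hsq 0) 0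
      refine hne (prj_eq_iff.2 ?_)
      rcases mul_self_eq_one_iff.1 hb with b | b
      · left; refine Subtype.ext ?_; rw [hβ, b, one_smul]
      · right; refine Subtype.ext ?_
        rw [Matrix.SpecialLinearGroup.coe_mul, neg_one_coe, hβ, b]; simp
    · exact coe_anti h
  have triv : ∀ Z : SL2, (Z : M2) * W = W * Z → (Z : M2) * W' = W' * Z → prj Z = 1 := by
    intro Z hZ hZ'
    obtain ⟨β, hβ⟩ := eq_lin h2 hW hWW hZ
    set a := (Z : M2).trace / 2
    rw [hβ, add_mul, mul_add, smul_mul_assoc, smul_mul_assoc, one_mul, mul_smul_comm,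
      mul_smul_comm, mul_one, add_right_inj] at hZ'
    have h0 : (β * 2) • ((W : M2) * W') = 0 := by
      rw [mul_two, add_smul]
      nth_rw 2 [anti]
      rw [smul_neg, hZ', add_neg_cancel]
    have hb : β = 0 := by
      by_contra hb
      rw [smul_eq_zero] at h0
      have h00 := congrArg ((W : M2) * ·) (h0.resolve_left (mul_ne_zero hb h2))
      rw [← mul_assoc, hWW, neg_one_mul, mul_zero, neg_eq_zero] at h00
      exact hWs' 0 (by rw [zero_smul]; exact h00)
    rw [hb, zero_smul, add_zero] at hβ
    have hd := Z.2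
    rw [hβ, Matrix.det_smul, Matrix.det_one, Fintype.card_fin, mul_one] at hd
    refine prj_eq_one.2 ((sq_eq_one_iff.1 hd).imp (fun e => Subtype.ext ?_) fun e => Subtype.ext ?_)
    · rw [hβ, e, one_smul, Matrix.SpecialLinearGroup.coe_one]
    · rw [hβ, e, neg_one_coe, neg_smul, one_smul]
  have hw2 : prj W * prj W = 1 := by
    rw [← pow_two]; exact orderOf_dvd_iff_pow_eq_one.1 hw.dvd
  have hw2' : prj W' * prj W' = 1 := by
    rw [← pow_two]; exact orderOf_dvd_iff_pow_eq_one.1 hw'.dvd
  have anti' : (W' : M2) * W = -((W : M2) * W') := by rw [anti, neg_neg]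
  rcases commute_prj hk with a | a <;> rcases commute_prj hk' with b | b
  · have a' := congrArg (fun z : SL2 => (z : M2)) a
    have b' := congrArg (fun z : SL2 => (z : M2)) b
    simp only [Matrix.SpecialLinearGroup.coe_mul] at a' b'
    exact Or.inl (triv Y a' b')
  · have a' := congrArg (fun z : SL2 => (z : M2)) a
    simp only [Matrix.SpecialLinearGroup.coe_mul] at a'
    have b' := coe_anti b
    right; left
    have h := triv (Y * W) (by rw [Matrix.SpecialLinearGroup.coe_mul, ← mul_assoc, a'])
      (by rw [Matrix.SpecialLinearGroup.coe_mul, mul_assoc, anti, mul_neg, ← mul_assoc, b', neg_mul,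
        neg_neg, mul_assoc])
    rw [map_mul] at h
    rw [eq_inv_of_mul_eq_one_left h, inv_eq_of_mul_eq_one_right hw2]
  · have a' := coe_anti a
    have b' := congrArg (fun z : SL2 => (z : M2)) b
    simp only [Matrix.SpecialLinearGroup.coe_mul] at b'
    right; right; left
    have h := triv (Y * W') (by rw [Matrix.SpecialLinearGroup.coe_mul, mul_assoc, anti', mul_neg,
        ← mul_assoc, a', neg_mul, neg_neg, mul_assoc])
      (by rw [Matrix.SpecialLinearGroup.coe_mul, ← mul_assoc, b'])
    rw [map_mul] at h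
    rw [eq_inv_of_mul_eq_one_left h, inv_eq_of_mul_eq_one_right hw2']
  · have a' := coe_anti a
    have b' := coe_anti b
    right; right; right
    have h := triv (Y * (W' * W))
      (by
        rw [Matrix.SpecialLinearGroup.coe_mul, Matrix.SpecialLinearGroup.coe_mul]
        calc (Y : M2) * ((W' : M2) * W) * W = -((Y : M2) * W * W' * W) := by
              rw [anti']; noncomm_ring
          _ = (W : M2) * ((Y : M2) * ((W' : M2) * W)) := by rw [a']; noncomm_ring)
      (by
        rw [Matrix.SpecialLinearGroup.coe_mul, Matrix.SpecialLinearGroup.coe_mul]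
        calc (Y : M2) * ((W' : M2) * W) * W' = (Y : M2) * W' * ((W : M2) * W') := by noncomm_ring
          _ = (W' : M2) * ((Y : M2) * ((W' : M2) * W)) := by rw [b', anti]; noncomm_ring)
    rw [map_mul, map_mul] at h
    rw [eq_inv_of_mul_eq_one_left h, _root_.mul_inv_rev, inv_eq_of_mul_eq_one_right hw2,
      inv_eq_of_mul_eq_one_right hw2']

/-- No element of order four when two is a non-square. -/
theorem orderOf_ne_four (h2 : (2 : F) ≠ 0) (hs : ¬ IsSquare (2 : F)) (g : PSL2) :
    orderOf g ≠ 4 := by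
  intro hg
  have hw : orderOf (g * g) = 2 := by
    rw [← pow_two, orderOf_pow_of_dvd two_ne_zero (by rw [hg]; norm_num), hg]
  obtain ⟨G', rfl⟩ := prj_surjective g
  rw [← map_mul] at hw
  obtain ⟨hWW, hW, -⟩ := CfsgLib.PSL2.lift_orderOf_two h2 hw
  rw [Matrix.SpecialLinearGroup.coe_mul, CfsgLib.SpecLin.SLTwo.sq_eq (G' : M2) G'.2,
    Matrix.trace_sub, Matrix.trace_smul, Matrix.trace_one, Fintype.card_fin] at hW
  simp only [smul_eq_mul, Nat.cast_ofNat] at hW
  exact hs ⟨(G' : M2).trace, by linear_combination -hW⟩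

end CfsgLib.ReeOrder.Block
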