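import Cfsg.Agent.Lib.ReeOrder.Block.Halves
import Cfsg.Agent.Lib.SL2Char.Projective
import Cfsg.Agent.Lib.Characters.Galois

/-!
The four characters of `PSL₂(q)`, `q ≡ 3, 5 (mod 8)`, of the principal 2-block.
-/

set_option autoImplicit false
set_option linter.unusedSectionVars false

namespace CfsgLib.ReeOrder.Block

open Matrix Cfsg CfsgLib.ReeType CfsgLib.SL2Char CfsgLib.SL2Tori CfsgLib.Schur CfsgLib.Characters
  CfsgLib.Chars17 CfsgLib.SL2Char.Projective
open scoped ComplexConjugate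

variable {F : Type} [Field F] [Fintype F] [DecidableEq F]

local notation "SL2" => Matrix.SpecialLinearGroup (Fin 2) F
local notation "PSL2" => Matrix.ProjectiveSpecialLinearGroup (Fin 2) F

/-- A witness against membership of the principal block. -/
def Excl (χ : Matrix.ProjectiveSpecialLinearGroup (Fin 2) F → ℂ) : Prop :=
  (∃ w, orderOf w = 2 ∧ χ w = 0) ∨
    ∃ w x, orderOf w = 2 ∧ Odd (orderOf x) ∧ Commute w x ∧
      (∀ y, Commute y w → y * x * y⁻¹ ∈ Subgroup.zpowers x) ∧ χ (w * x) ≠ χ w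

/-- The principal block of `PSL₂(q)`. -/
structure HalfData (F : Type) [Field F] [Fintype F] [DecidableEq F] where
  e : ℤ
  St : IrrCharacter (Matrix.ProjectiveSpecialLinearGroup (Fin 2) F)
  eta : IrrCharacter (Matrix.ProjectiveSpecialLinearGroup (Fin 2) F)
  eta' : IrrCharacter (Matrix.ProjectiveSpecialLinearGroup (Fin 2) F)
  q_mod : (e = 1 ∧ Fintype.card F % 8 = 3) ∨ (e = -1 ∧ Fintype.card F % 8 = 5)
  q_ge : 5 < Fintype.card F
  ne : eta ≠ eta'
  St_one : (St : Matrix.ProjectiveSpecialLinearGroup (Fin 2) F → ℂ) 1 = (Fintype.card F : ℂ)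
  eta_one : 2 * (eta : Matrix.ProjectiveSpecialLinearGroup (Fin 2) F → ℂ) 1 =
    (Fintype.card F : ℂ) - (e : ℂ)
  eta'_one : 2 * (eta' : Matrix.ProjectiveSpecialLinearGroup (Fin 2) F → ℂ) 1 =
    (Fintype.card F : ℂ) - (e : ℂ)
  even : ∀ x, Even (orderOf x) →
    (St : Matrix.ProjectiveSpecialLinearGroup (Fin 2) F → ℂ) x = -(e : ℂ) ∧
      (eta : Matrix.ProjectiveSpecialLinearGroup (Fin 2) F → ℂ) x = (e : ℂ) ∧
        (eta' : Matrix.ProjectiveSpecialLinearGroup (Fin 2) F → ℂ) x = (e : ℂ)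
  odd : ∀ x, Odd (orderOf x) → (St : Matrix.ProjectiveSpecialLinearGroup (Fin 2) F → ℂ) x =
    (eta : Matrix.ProjectiveSpecialLinearGroup (Fin 2) F → ℂ) x +
      (eta' : Matrix.ProjectiveSpecialLinearGroup (Fin 2) F → ℂ) x + (e : ℂ)
  torus : ∀ x, x ≠ 1 → orderOf x ∣ oddTorus (Fintype.card F) →
    (eta : Matrix.ProjectiveSpecialLinearGroup (Fin 2) F → ℂ) x = 0 ∧
      (eta' : Matrix.ProjectiveSpecialLinearGroup (Fin 2) F → ℂ) x = 0
  list : ∀ χ : IrrCharacter (Matrix.ProjectiveSpecialLinearGroup (Fin 2) F),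
    (χ : Matrix.ProjectiveSpecialLinearGroup (Fin 2) F → ℂ) = (fun _ => 1) ∨ χ = St ∨ χ = eta ∨
      χ = eta' ∨ Excl (χ : Matrix.ProjectiveSpecialLinearGroup (Fin 2) F → ℂ)
  swap : ∃ σ : ℂ ≃+* ℂ, ∀ x,
    σ ((eta : Matrix.ProjectiveSpecialLinearGroup (Fin 2) F → ℂ) x) =
        (eta' : Matrix.ProjectiveSpecialLinearGroup (Fin 2) F → ℂ) x ∧
      σ ((eta' : Matrix.ProjectiveSpecialLinearGroup (Fin 2) F → ℂ) x) =
        (eta : Matrix.ProjectiveSpecialLinearGroup (Fin 2) F → ℂ) x ∧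
      σ ((St : Matrix.ProjectiveSpecialLinearGroup (Fin 2) F → ℂ) x) =
        (St : Matrix.ProjectiveSpecialLinearGroup (Fin 2) F → ℂ) x
  conj_pos : e = 1 → ∀ x,
    conj ((eta : Matrix.ProjectiveSpecialLinearGroup (Fin 2) F → ℂ) x) =
        (eta' : Matrix.ProjectiveSpecialLinearGroup (Fin 2) F → ℂ) x ∧
      conj ((eta' : Matrix.ProjectiveSpecialLinearGroup (Fin 2) F → ℂ) x) =
        (eta : Matrix.ProjectiveSpecialLinearGroup (Fin 2) F → ℂ) x
  conj_neg : e = -1 → ∀ x,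
    conj ((eta : Matrix.ProjectiveSpecialLinearGroup (Fin 2) F → ℂ) x) =
        (eta : Matrix.ProjectiveSpecialLinearGroup (Fin 2) F → ℂ) x ∧
      conj ((eta' : Matrix.ProjectiveSpecialLinearGroup (Fin 2) F → ℂ) x) =
        (eta' : Matrix.ProjectiveSpecialLinearGroup (Fin 2) F → ℂ) x
  conj_St : ∀ x, conj ((St : Matrix.ProjectiveSpecialLinearGroup (Fin 2) F → ℂ) x) =
    (St : Matrix.ProjectiveSpecialLinearGroup (Fin 2) F → ℂ) x

theorem infl_prj (χ : IrrCharacter PSL2) (g : SL2) :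
    (infl (Subgroup.center SL2) χ : SL2 → ℂ) g = (χ : PSL2 → ℂ) (prj g) := rfl

theorem ext_prj {χ ψ : IrrCharacter PSL2}
    (h : ∀ g : SL2, (χ : PSL2 → ℂ) (prj g) = (ψ : PSL2 → ℂ) (prj g)) : χ = ψ :=
  Subtype.ext (funext fun x => by obtain ⟨g, rfl⟩ := prj_surjective x; exact h g)

theorem excl_of (h2 : (2 : F) ≠ 0) {χ : IrrCharacter PSL2}
    (h : SLExcl (infl (Subgroup.center SL2) χ : SL2 → ℂ)) : Excl (χ : PSL2 → ℂ) := by
  rcases h with ⟨W, hW, h0⟩ | ⟨W, X, hW, hc, ⟨k, hk, hX⟩, hne⟩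
  · exact Or.inl ⟨prj W, orderOf_prj_two h2 hW, h0⟩
  · obtain ⟨ht, hWW⟩ := trace_zero_of_sq hW
    refine Or.inr ⟨prj W, prj X, orderOf_prj_two h2 hW, ?_, ?_, fun y hy => ?_, ?_⟩
    · exact Odd.of_dvd_nat hk (orderOf_dvd_of_pow_eq_one (by rw [← map_pow, hX, map_one]))
    · rw [Commute, SemiconjBy, ← map_mul, ← map_mul, hc]
    · exact conj_mem_zpowers h2 ht hWW hc hy
    · rw [← map_mul]; exact hne

theorem exists_halfData (hq : Fintype.card F % 8 = 3 ∨ Fintype.card F % 8 = 5)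
    (hq5 : 5 < Fintype.card F) : Nonempty (HalfData F) := by
  classical
  obtain ⟨c, h, D⟩ := exists_dsData (F := F) (Nat.odd_iff.2 (by omega))
  obtain ⟨α₀, θ₀, η₁, η₂, χ₁, χ₂, T⟩ := exists_table D
  have h2 : (2 : F) ≠ 0 := D.torus.two_ne
  obtain ⟨e, a, b, T'⟩ : ∃ (e : ℤ) (a b : IrrCharacter SL2), SLFacts e a b := by
    rcases hq with h8 | h8
    · exact ⟨_, _, _, facts_three T h8 hq5⟩
    · exact ⟨_, _, _, facts_five T h8 hq5⟩
  obtain ⟨A, hA⟩ := exists_projective a T'.neg_a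
  obtain ⟨B, hB⟩ := exists_projective b T'.neg_b
  obtain ⟨S, hS, -⟩ := exists_steinberg (F := F)
  have vA : ∀ g, (A : PSL2 → ℂ) (prj g) = (a : SL2 → ℂ) g := fun g => by rw [← hA]; rfl
  have vB : ∀ g, (B : PSL2 → ℂ) (prj g) = (b : SL2 → ℂ) g := fun g => by rw [← hB]; rfl
  have vS : ∀ g, (S : PSL2 → ℂ) (prj g) = steinberg g := fun g => by rw [← hS]; rfl
  have hSone : (S : PSL2 → ℂ) 1 = (Fintype.card F : ℂ) := by
    rw [← map_one (prj (F := F)), vS, steinberg_one]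
  have hAone : 2 * (A : PSL2 → ℂ) 1 = (Fintype.card F : ℂ) - (e : ℂ) := by
    rw [← map_one (prj (F := F)), vA, T'.deg_a]
  have hBone : 2 * (B : PSL2 → ℂ) 1 = (Fintype.card F : ℂ) - (e : ℂ) := by
    rw [← map_one (prj (F := F)), vB, T'.deg_b]
  have hlist : ∀ χ : IrrCharacter PSL2, (χ : PSL2 → ℂ) = (fun _ => 1) ∨ χ = S ∨ χ = A ∨ χ = B ∨
      (((χ : PSL2 → ℂ) 1 = (Fintype.card F : ℂ) + 1 ∨ (χ : PSL2 → ℂ) 1 = (Fintype.card F : ℂ) - 1) ∧
        Excl (χ : PSL2 → ℂ)) := by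
    intro χ
    have hneg : (infl (Subgroup.center SL2) χ : SL2 → ℂ) (-1) =
        (infl (Subgroup.center SL2) χ : SL2 → ℂ) 1 := by
      rw [infl_prj, infl_prj, prj_eq_one.2 (Or.inr rfl), map_one]
    rcases T'.list _ hneg with e1 | e1 | e1 | e1 | ⟨e1, e2⟩
    · refine Or.inl (funext fun x => ?_)
      obtain ⟨g, rfl⟩ := prj_surjective x
      exact congrFun e1 g
    · exact Or.inr (Or.inl (ext_prj fun g => by rw [vS]; exact congrFun e1 g))
    · exact Or.inr (Or.inr (Or.inl (ext_prj fun g => by rw [vA, ← e1]; rfl)))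
    · exact Or.inr (Or.inr (Or.inr (Or.inl (ext_prj fun g => by rw [vB, ← e1]; rfl))))
    · refine Or.inr (Or.inr (Or.inr (Or.inr ⟨?_, excl_of h2 e2⟩)))
      rw [infl_prj, map_one] at e1
      exact e1
  have he : e = 1 ∨ e = -1 := T'.q_mod.imp And.left And.left
  have hdegS : ∀ χ : IrrCharacter PSL2, (χ : PSL2 → ℂ) 1 = (Fintype.card F : ℂ) → χ = S := by
    intro χ hd
    rcases hlist χ with e1 | e1 | e1 | e1 | ⟨e1 | e1, -⟩
    · rw [e1] at hd
      simp only at hd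
      have : 1 = Fintype.card F := by exact_mod_cast hd
      omega
    · exact e1
    · rw [e1] at hd
      have h1 : (Fintype.card F : ℤ) = -e := by
        have : ((Fintype.card F : ℤ) : ℂ) = ((-e : ℤ) : ℂ) := by
          push_cast; linear_combination hAone - 2 * hd
        exact_mod_cast this
      omega
    · rw [e1] at hd
      have h1 : (Fintype.card F : ℤ) = -e := by
        have : ((Fintype.card F : ℤ) : ℂ) = ((-e : ℤ) : ℂ) := by
          push_cast; linear_combination hBone - 2 * hd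
        exact_mod_cast this
      omega
    · rw [e1] at hd; simp at hd
    · rw [e1] at hd; simp at hd
  have hdegA : ∀ χ : IrrCharacter PSL2, (χ : PSL2 → ℂ) 1 = (A : PSL2 → ℂ) 1 → χ = A ∨ χ = B := by
    intro χ hd
    rcases hlist χ with e1 | e1 | e1 | e1 | ⟨e1 | e1, -⟩
    · rw [e1] at hd
      have h1 : (2 : ℤ) = (Fintype.card F : ℤ) - e := by
        have : ((2 : ℤ) : ℂ) = (((Fintype.card F : ℤ) - e : ℤ) : ℂ) := by
          push_cast; linear_combination 2 * hd + hAone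
        exact_mod_cast this
      omega
    · rw [e1, hSone] at hd
      have h1 : (Fintype.card F : ℤ) = -e := by
        have : ((Fintype.card F : ℤ) : ℂ) = ((-e : ℤ) : ℂ) := by
          push_cast; linear_combination 2 * hd + hAone
        exact_mod_cast this
      omega
    · exact Or.inl e1
    · exact Or.inr e1
    · rw [e1] at hd
      have h1 : (Fintype.card F : ℤ) = -e - 2 := by
        have : ((Fintype.card F : ℤ) : ℂ) = ((-e - 2 : ℤ) : ℂ) := by
          push_cast; linear_combination 2 * hd + hAone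
        exact_mod_cast this
      omega
    · rw [e1] at hd
      have h1 : (Fintype.card F : ℤ) = -e + 2 := by
        have : ((Fintype.card F : ℤ) : ℂ) = ((-e + 2 : ℤ) : ℂ) := by
          push_cast; linear_combination 2 * hd + hAone
        exact_mod_cast this
      omega
  -- a transvection separates the two halves
  set u : PSL2 := prj (bEl (1 : Fˣ) (1 : F) : SL2) with hu
  have hdiff : ((A : PSL2 → ℂ) u - (B : PSL2 → ℂ) u) ^ 2 = -(e : ℂ) * (Fintype.card F : ℂ) := by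
    rw [hu, vA, vB]; exact T'.uni
  have hsum : (A : PSL2 → ℂ) u + (B : PSL2 → ℂ) u = -(e : ℂ) := by
    rw [hu, vA, vB]; exact T'.sum_uni 1 one_ne_zero
  have hsep : (A : PSL2 → ℂ) u ≠ (B : PSL2 → ℂ) u := fun e1 => by
    rw [e1, sub_self, zero_pow two_ne_zero] at hdiff
    have : (((-e) * Fintype.card F : ℤ) : ℂ) = ((0 : ℤ) : ℂ) := by push_cast; exact hdiff.symm
    have h0 : -e * (Fintype.card F : ℤ) = 0 := by exact_mod_cast this
    rcases mul_eq_zero.1 h0 with h0 | h0 <;> omega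
  have hAB : A ≠ B := fun e1 => hsep (by rw [e1])
  -- the action of an automorphism of ℂ
  have move : ∀ σ : ℂ ≃+* ℂ, ∀ χ : IrrCharacter PSL2, (χ = A ∨ χ = B) →
      ∃ χ' : IrrCharacter PSL2, (χ' = A ∨ χ' = B) ∧
        ∀ x, σ ((χ : PSL2 → ℂ) x) = (χ' : PSL2 → ℂ) x := by
    intro σ χ hχ
    refine ⟨⟨_, CfsgLib.CharGalois.isIrrCharacter_map σ χ.2⟩, hdegA _ ?_, fun x => rfl⟩
    show σ ((χ : PSL2 → ℂ) 1) = _
    have h1 : 2 * (χ : PSL2 → ℂ) 1 = (Fintype.card F : ℂ) - (e : ℂ) := by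
      rcases hχ with rfl | rfl <;> assumption
    have h3 := congrArg σ h1
    rw [map_mul, map_sub, map_ofNat, map_natCast, map_intCast] at h3
    linear_combination (h3 - hAone) / 2
  have fixS : ∀ σ : ℂ ≃+* ℂ, ∀ x, σ ((S : PSL2 → ℂ) x) = (S : PSL2 → ℂ) x := by
    intro σ x
    have h1 := hdegS ⟨_, CfsgLib.CharGalois.isIrrCharacter_map σ S.2⟩
      (show σ ((S : PSL2 → ℂ) 1) = _ by rw [hSone, map_natCast])
    exact congrFun (congrArg Subtype.val h1) x
  have moved : ∀ σ : ℂ ≃+* ℂ, σ ((A : PSL2 → ℂ) u) ≠ (A : PSL2 → ℂ) u → ∀ x,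
      σ ((A : PSL2 → ℂ) x) = (B : PSL2 → ℂ) x ∧ σ ((B : PSL2 → ℂ) x) = (A : PSL2 → ℂ) x := by
    intro σ hσ
    obtain ⟨A', hA', vA'⟩ := move σ A (Or.inl rfl)
    obtain ⟨B', hB', vB'⟩ := move σ B (Or.inr rfl)
    obtain rfl : A' = B := hA'.resolve_left fun e1 => hσ (by rw [vA', e1])
    obtain rfl : B' = A := by
      refine hB'.resolve_right fun e1 => hAB (Subtype.ext (funext fun x => σ.injective ?_))
      rw [vA', vB', e1]
    exact fun x => ⟨vA' x, vB' x⟩
  have fixed : ∀ σ : ℂ ≃+* ℂ, σ ((A : PSL2 → ℂ) u) = (A : PSL2 → ℂ) u → ∀ x,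
      σ ((A : PSL2 → ℂ) x) = (A : PSL2 → ℂ) x ∧ σ ((B : PSL2 → ℂ) x) = (B : PSL2 → ℂ) x := by
    intro σ hσ
    obtain ⟨A', hA', vA'⟩ := move σ A (Or.inl rfl)
    obtain ⟨B', hB', vB'⟩ := move σ B (Or.inr rfl)
    obtain rfl : A' = A := hA'.resolve_right fun e1 => hsep (by rw [← hσ, vA', e1])
    obtain rfl : B' = B := by
      refine hB'.resolve_left fun e1 => hAB (Subtype.ext (funext fun x => σ.injective ?_))
      rw [vA', vB', e1]
    exact fun x => ⟨vA' x, vB' x⟩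
  -- complex conjugation
  set cj : ℂ ≃+* ℂ := Complex.conjAe.toRingEquiv
  have hcj : ∀ z, cj z = conj z := fun z => rfl
  set d : ℂ := (A : PSL2 → ℂ) u - (B : PSL2 → ℂ) u with hd
  have hdA : 2 * (A : PSL2 → ℂ) u = d - (e : ℂ) := by rw [hd]; linear_combination hsum
  have hq0 : (0 : ℝ) < (Fintype.card F : ℝ) := by exact_mod_cast Fintype.card_pos
  have hre := congrArg Complex.re hdiff
  have him := congrArg Complex.im hdiff
  simp only [pow_two, Complex.mul_re, Complex.mul_im, Complex.neg_re, Complex.neg_im,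
    Complex.intCast_re, Complex.intCast_im, Complex.natCast_re, Complex.natCast_im, neg_zero,
    mul_zero, zero_mul, sub_zero, add_zero] at hre him
  have hprod : d.re = 0 ∨ d.im = 0 := mul_eq_zero.1 (by linarith)
  have hnot : ¬ ∀ m : ℕ, m.Coprime (Nat.card PSL2) → (A : PSL2 → ℂ) (u ^ m) = (A : PSL2 → ℂ) u := by
    intro hall
    obtain ⟨r, hr⟩ := CfsgLib.CharGalois.exists_rat_char (irr_isCharacter A) u hall
    have hd2 : d = ((2 * r + e : ℚ) : ℂ) := by push_cast; linear_combination -hdA + 2 * hr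
    rw [hd2] at hdiff
    have h1 : (2 * r + e : ℚ) ^ 2 = -(e : ℚ) * (Fintype.card F : ℚ) := by exact_mod_cast hdiff
    rcases T'.q_mod with ⟨e1, -⟩ | ⟨e1, h8⟩
    · have hq0' : (0 : ℚ) < (Fintype.card F : ℚ) := by exact_mod_cast Fintype.card_pos
      rw [e1] at h1
      push_cast at h1
      nlinarith [sq_nonneg (2 * r + 1)]
    · have h3 : IsSquare ((Fintype.card F : ℕ) : ℚ) := by
        refine ⟨2 * r + e, ?_⟩
        rw [← pow_two, h1, e1]
        simp
      rw [Rat.isSquare_natCast_iff] at h3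
      obtain ⟨k, hk⟩ := h3
      have := Nat.mul_mod k k 8
      have hk8 : k % 8 < 8 := Nat.mod_lt _ (by norm_num)
      interval_cases h : k % 8 <;> omega
  push Not at hnot
  obtain ⟨m, hm, hmu⟩ := hnot
  have : NeZero (Nat.card PSL2) := ⟨Nat.card_pos.ne'⟩
  obtain ⟨σ, hσ⟩ := CfsgLib.CharGalois.exists_autComplex (Nat.card PSL2) hm
  have hσu : σ ((A : PSL2 → ℂ) u) ≠ (A : PSL2 → ℂ) u := by
    rwa [CfsgLib.CharGalois.map_char_eq_pow (irr_isCharacter A) σ hσ u]
  refine ⟨{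
    e := e, St := S, eta := A, eta' := B, q_mod := T'.q_mod, q_ge := hq5, ne := hAB
    St_one := hSone, eta_one := hAone, eta'_one := hBone
    even := ?_, odd := ?_, torus := ?_
    list := fun χ => (hlist χ).imp_right (Or.imp_right (Or.imp_right (Or.imp_right And.right)))
    swap := ⟨σ, fun x => ⟨(moved σ hσu x).1, (moved σ hσu x).2, fixS σ x⟩⟩
    conj_pos := ?_, conj_neg := ?_, conj_St := fun x => fixS cj x }⟩
  · intro x hx
    obtain ⟨g, rfl⟩ := prj_surjective x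
    rw [vS, vA, vB]; exact T'.even g hx
  · intro x hx
    obtain ⟨g, rfl⟩ := prj_surjective x
    rw [vS, vA, vB]; exact T'.odd g hx
  · intro x hx1 hx
    obtain ⟨g, rfl⟩ := prj_surjective x
    rw [vA, vB]; exact T'.torus g hx1 hx
  · intro e1
    refine moved cj fun h1 => ?_
    rw [hcj, Complex.conj_eq_iff_im] at h1
    have h3 := congrArg Complex.im hdA
    simp [h1] at h3
    rw [← h3, e1] at hre
    simp at hre
    nlinarith
  · intro e1
    refine fixed cj ?_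
    rw [hcj, Complex.conj_eq_iff_im]
    have h3 := congrArg Complex.im hdA
    rw [e1] at hre
    simp at hre
    have h4 : d.im = 0 := hprod.elim (fun h0 => by rw [h0] at hre; nlinarith) id
    simpa [h4] using h3

end CfsgLib.ReeOrder.Block
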