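import Cfsg.Agent.Lib.ReeOrder.Block.Coeff
import Cfsg.Agent.Lib.JankoThompson.Shape
import Cfsg.Agent.Lib.Characters.Ito

/-!
The rows meeting the section of `t`: degrees, values and congruences.
-/

set_option autoImplicit false
set_option linter.unusedSectionVars false
set_option linter.style.haveILetI false

namespace CfsgLib.ReeOrder.Block

open Cfsg CfsgLib.ReeType CfsgLib.Characters CfsgLib.JankoThompson
open scoped ComplexConjugate Classical

universe u

variable {G : Type u} [Group G] [Fintype G]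
variable {F : Type} [Field F] [Fintype F] [DecidableEq F]
variable {t : G} (K : Conf t F)

local notation "PSL2" => Matrix.ProjectiveSpecialLinearGroup (Fin 2) F

theorem zmod_two_sq : ∀ z : Multiplicative (ZMod 2), z * z = 1 := by decide

include K

theorem exists_inv_L : ∃ w : PSL2, orderOf w = 2 := by
  haveI := Fact.mk Nat.prime_two
  refine exists_prime_orderOf_dvd_card' 2 ?_
  rw [card_L K]
  exact ⟨2 * Fintype.card F * coTorus (Fintype.card F) * oddTorus (Fintype.card F), by ring⟩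

/-- A non-principal irreducible character has degree at least two. -/
theorem two_le_degree (χ : IrrCharacter G) (h : (χ : G → ℂ) ≠ fun _ => 1) :
    2 ≤ charDegree (χ : G → ℂ) := by
  have hd := CfsgLib.LinearTwist.apply_one_eq_charDegree (irr_isCharacter χ)
  have hpos := CfsgLib.PrincipalSq.charDegree_pos χ
  by_contra hlt
  have h1 : (χ : G → ℂ) 1 = 1 := by
    rw [hd, show charDegree (χ : G → ℂ) = 1 by omega, Nat.cast_one]
  set l := CfsgLib.CharIto.linearHom (isCharacter_of_irr χ.2) h1 with hl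
  have hval : ∀ g, (l g : ℂ) = (χ : G → ℂ) g := fun g => rfl
  haveI : IsSimpleGroup G := K.simple
  rcases l.normal_ker.eq_bot_or_eq_top with hk | hk
  · have hinj := (MonoidHom.ker_eq_bot_iff l).1 hk
    obtain ⟨w, hw⟩ := exists_inv_L K
    have hu : orderOf (K.cent.up w) = 2 := by
      rw [orderOf_injective K.cent.up K.cent.up_injective, hw]
    obtain ⟨c, hc⟩ := isConj_iff.1 (K.isConj_involution hu)
    have hcomm : c * t = t * c := hinj (by rw [map_mul, map_mul, mul_comm])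
    rw [hcomm, mul_inv_cancel_right] at hc
    exact K.t_ne_up w hc
  · refine h (funext fun g => ?_)
    rw [← hval, MonoidHom.mem_ker.1 (hk ▸ Subgroup.mem_top g), Units.val_one]

/-- A four group of the complement together with `t`. -/
theorem exists_eight : ∃ (H : Type) (_ : Group H) (_ : Fintype H) (f : H →* G),
    Function.Injective f ∧ Nat.card H = 8 ∧ ∀ x : H, x * x = 1 := by
  haveI := Fact.mk Nat.prime_two
  obtain ⟨V, hV⟩ := Sylow.exists_subgroup_card_pow_prime (G := PSL2) 2 (n := 2) (by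
    rw [card_L K]
    exact ⟨Fintype.card F * coTorus (Fintype.card F) * oddTorus (Fintype.card F), by ring⟩)
  have hsq : ∀ v : V, v * v = 1 := by
    intro v
    obtain ⟨i, hi, he⟩ := (Nat.dvd_prime_pow Nat.prime_two).1 (hV ▸ orderOf_dvd_natCard v)
    have h4 := orderOf_ne_four K.two_ne (sq_of_two K.q_mod) (v : PSL2)
    rw [Subgroup.orderOf_coe, he] at h4
    rcases i with _ | _ | _ | i
    · rw [orderOf_eq_one_iff.1 he, one_mul]
    · rw [← pow_two]; exact orderOf_dvd_iff_pow_eq_one.1 (by rw [he]; norm_num)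
    · exact absurd rfl h4
    · omega
  refine ⟨Multiplicative (ZMod 2) × V, inferInstance, Fintype.ofFinite _,
    (Subgroup.centralizer ({t} : Set G)).subtype.comp
      (K.cent.e.symm.toMonoidHom.comp ((MonoidHom.id _).prodMap V.subtype)), ?_, ?_, ?_⟩
  · intro a b hab
    have h1 := K.cent.e.symm.injective (Subtype.ext hab)
    exact Prod.ext (Prod.ext_iff.1 h1).1 (Subtype.ext (Prod.ext_iff.1 h1).2)
  · rw [Nat.card_prod, hV, show Nat.card (Multiplicative (ZMod 2)) = 2 from Nat.card_zmod 2]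
    norm_num
  · rintro ⟨z, v⟩
    refine Prod.ext ?_ (hsq v)
    exact zmod_two_sq z

/-- Degree and value at `t` agree modulo eight. -/
theorem eight_dvd (χ : IrrCharacter G) {z : ℤ} (hz : (χ : G → ℂ) t = (z : ℂ)) :
    (8 : ℤ) ∣ (charDegree (χ : G → ℂ) : ℤ) - z := by
  obtain ⟨H, _, _, f, hf, hcard, hsq⟩ := exists_eight K
  obtain ⟨n, hn⟩ := classInner_char_nat (G := H)
    (CfsgLib.CharGalois.isCharacter_comp (irr_isCharacter χ) f) (isCharacter_of_irr isIrrCharacter_one)
  rw [classInner, hcard, ← Finset.add_sum_erase _ _ (Finset.mem_univ (1 : H)),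
    Finset.sum_congr rfl (g := fun _ => (z : ℂ)) fun x hx => ?_, Finset.sum_const,
    Finset.card_erase_of_mem (Finset.mem_univ _), Finset.card_univ, ← Nat.card_eq_fintype_card,
    hcard, map_one, map_one, mul_one,
    CfsgLib.LinearTwist.apply_one_eq_charDegree (irr_isCharacter χ), nsmul_eq_mul] at hn
  · refine ⟨(n : ℤ) - z, ?_⟩
    have h1 : ((charDegree (χ : G → ℂ) : ℤ) : ℂ) - (z : ℂ) = ((8 : ℤ) : ℂ) * (((n : ℤ) : ℂ) - z) := by
      push_cast at hn ⊢
      linear_combination 8 * hn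
    exact_mod_cast h1
  · rw [map_one, mul_one, ← hz]
    refine (classFunction_eq_of_isConj (irr_isClassFunction χ) (K.isConj_involution ?_)).symm
    rw [orderOf_injective f hf]
    exact orderOf_eq_prime (by rw [pow_two, hsq]) (Finset.ne_of_mem_erase hx)

variable (D : HalfData F)

/-- The signed value at `1` of a half. -/
theorem half_one : (D.e : ℂ) * (D.eta : PSL2 → ℂ) 1 = (((sq K.q - 1) / 2 : ℤ) : ℂ) ∧
    (D.e : ℂ) * (D.eta' : PSL2 → ℂ) 1 = (((sq K.q - 1) / 2 : ℤ) : ℂ) ∧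
    sq K.q = D.e * (Fintype.card F : ℤ) ∧ 2 * ((sq K.q - 1) / 2) = sq K.q - 1 := by
  have hq : K.q = Fintype.card F := rfl
  obtain ⟨he, hdvd⟩ : sq K.q = D.e * (Fintype.card F : ℤ) ∧ 2 ∣ sq K.q - 1 := by
    rcases D.q_mod with ⟨e, h8⟩ | ⟨e, h8⟩ <;> rw [hq, e, sq] <;> split_ifs <;> omega
  have h2 : (2 : ℂ) * (((sq K.q - 1) / 2 : ℤ) : ℂ) = (D.e : ℂ) * (Fintype.card F : ℂ) - 1 := by
    have h3 : 2 * ((sq K.q - 1) / 2) = D.e * (Fintype.card F : ℤ) - 1 := by omega
    exact_mod_cast congrArg (fun z : ℤ => (z : ℂ)) h3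
  refine ⟨?_, ?_, he, by omega⟩
  · linear_combination (D.e : ℂ) / 2 * D.eta_one - h2 / 2 - D.e_mul / 2
  · linear_combination (D.e : ℂ) / 2 * D.eta'_one - h2 / 2 - D.e_mul / 2

/-- The value at `t` of a character with a coefficient. -/
theorem value_t {χ : IrrCharacter G} {x : Fin 3 → ℤ}
    (h : ∀ k, Odd (orderOf k) → (χ : G → ℂ) (t * K.cent.up k) =
      (x 0 : ℂ) + (D.e : ℂ) *
        ((x 1 : ℂ) * (D.eta : PSL2 → ℂ) k + (x 2 : ℂ) * (D.eta' : PSL2 → ℂ) k)) :
    (χ : G → ℂ) t = ((x 0 + (x 1 + x 2) * ((sq K.q - 1) / 2) : ℤ) : ℂ) := by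
  have h1 := h 1 (by rw [orderOf_one]; exact odd_one)
  rw [map_one, mul_one] at h1
  obtain ⟨a, b, -, -⟩ := half_one K D
  rw [h1, Int.cast_add, Int.cast_mul, Int.cast_add]
  linear_combination (x 1 : ℂ) * a + (x 2 : ℂ) * b

/-- The value at `t` times an element of an odd torus. -/
theorem value_tx {χ : IrrCharacter G} {x : Fin 3 → ℤ}
    (h : ∀ k, Odd (orderOf k) → (χ : G → ℂ) (t * K.cent.up k) =
      (x 0 : ℂ) + (D.e : ℂ) *
        ((x 1 : ℂ) * (D.eta : PSL2 → ℂ) k + (x 2 : ℂ) * (D.eta' : PSL2 → ℂ) k))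
    {g : G} (hg : K.IsBElt g) : (χ : G → ℂ) (t * g) = (x 0 : ℂ) := by
  obtain ⟨h1, hc, hd⟩ := hg
  have ho : Odd (orderOf g) := K.odd_b.of_dvd_nat hd
  obtain ⟨k, rfl, hk⟩ := K.odd_up hc ho
  have hk1 : k ≠ 1 := fun e => h1 (by rw [e, map_one])
  obtain ⟨a, b⟩ := D.torus k hk1 (by rw [hk]; exact hd)
  rw [h k (by rw [hk]; exact ho), a, b]
  ring

/-- The integral columns: Gram matrix, degrees and the principal entries. -/
theorem exists_columns {M : Ideal AlgInt} (hM : IsPModular 2 M) :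
    ∃ x : IrrCharacter G → Fin 3 → ℤ,
      (∀ χ : IrrCharacter G, classInner ((toProj K).sec D.f0) (χ : G → ℂ) = (x χ 0 : ℂ) ∧
        classInner ((toProj K).sec D.g1) (χ : G → ℂ) = (x χ 1 : ℂ) ∧
        classInner ((toProj K).sec D.g2) (χ : G → ℂ) = (x χ 2 : ℂ) ∧
        (x χ ≠ 0 → ∀ k, Odd (orderOf k) → (χ : G → ℂ) (t * K.cent.up k) =
          (x χ 0 : ℂ) + (D.e : ℂ) *
            ((x χ 1 : ℂ) * (D.eta : PSL2 → ℂ) k + (x χ 2 : ℂ) * (D.eta' : PSL2 → ℂ) k))) ∧
      x (principalIrr G) 0 = 1 ∧ x (principalIrr G) 1 = 0 ∧ x (principalIrr G) 2 = 0 ∧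
      ∑ χ : IrrCharacter G, x χ 0 ^ 2 = 4 ∧ ∑ χ : IrrCharacter G, x χ 1 ^ 2 = 4 ∧ ∑ χ : IrrCharacter G, x χ 2 ^ 2 = 4 ∧
      ∑ χ : IrrCharacter G, x χ 1 * x χ 0 = 2 ∧ ∑ χ : IrrCharacter G, x χ 2 * x χ 0 = 2 ∧ ∑ χ : IrrCharacter G, x χ 1 * x χ 2 = 2 ∧
      ∀ i, ∑ χ : IrrCharacter G, x χ i * (charDegree (χ : G → ℂ) : ℤ) = 0 := by
  choose x hx using exists_coeff K D hM
  obtain ⟨g00, g11, g22, g10, g20, g12⟩ := sec_gram K D
  obtain ⟨p0, p1, p2⟩ := inner_principal K D
  refine ⟨x, hx, ?_, ?_, ?_, ?_, ?_, ?_, ?_, ?_, ?_, ?_⟩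
  · exact_mod_cast (hx (principalIrr G)).1.symm.trans p0
  · exact_mod_cast (hx (principalIrr G)).2.1.symm.trans p1
  · exact_mod_cast (hx (principalIrr G)).2.2.1.symm.trans p2
  · rw [classInner_self_eq_sum_sq ((toProj K).sec_class _) fun χ => (hx χ).1] at g00
    exact_mod_cast g00
  · rw [classInner_self_eq_sum_sq ((toProj K).sec_class _) fun χ => (hx χ).2.1] at g11
    exact_mod_cast g11
  · rw [classInner_self_eq_sum_sq ((toProj K).sec_class _) fun χ => (hx χ).2.2.1] at g22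
    exact_mod_cast g22
  · rw [classInner_eq_sum_mul ((toProj K).sec_class _)] at g10
    simp only [(hx _).1, (hx _).2.1, map_intCast] at g10
    exact_mod_cast g10
  · rw [classInner_eq_sum_mul ((toProj K).sec_class _)] at g20
    simp only [(hx _).1, (hx _).2.2.1, map_intCast] at g20
    exact_mod_cast g20
  · rw [classInner_eq_sum_mul ((toProj K).sec_class _)] at g12
    simp only [(hx _).2.1, (hx _).2.2.1, map_intCast] at g12
    exact_mod_cast g12
  · intro i
    have key : ∀ f : PSL2 → ℂ, OddSupport f →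
        ∑ χ : IrrCharacter G, classInner ((toProj K).sec f) (χ : G → ℂ) *
          (charDegree (χ : G → ℂ) : ℂ) = 0 := by
      intro f hs
      rw [← (toProj K).sec_one hs]
      conv_rhs => rw [classFunction_eq_sum ((toProj K).sec_class f)]
      simp only [Finset.sum_apply, Pi.smul_apply, smul_eq_mul]
      refine Finset.sum_congr rfl fun χ _ => ?_
      rw [CfsgLib.LinearTwist.apply_one_eq_charDegree (irr_isCharacter χ)]
    fin_cases i
    · have h := key _ D.f0_odd
      simp only [(hx _).1] at h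
      exact_mod_cast h
    · have h := key _ D.g1_odd
      simp only [(hx _).2.1] at h
      exact_mod_cast h
    · have h := key _ D.g2_odd
      simp only [(hx _).2.2.1] at h
      exact_mod_cast h

end CfsgLib.ReeOrder.Block
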